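import Cfsg.Agent.Lib.Involutions.Basic

/-!
# Centralizers of involutions that are generalized dihedral or elementary abelian: the shape

`A < H` and every element of `H \ A` squares to one. Then `A` is abelian and inverted by `H \ A`;
either `H` has exponent two or `A` has index two and exponent more than two.
-/

set_option autoImplicit false

namespace Cfsg.Agent.Lib.GenDihedral3322

open Cfsg.Agent.Lib.Involutions.Basic

variable {G : Type*} [Group G] {H A : Subgroup G}

/-- The standing hypothesis on the pair `A < H`. -/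
structure Shape (H A : Subgroup G) : Prop where
  lt : A < H
  sq : ∀ x ∈ H, x ∉ A → x * x = 1

namespace Shape

variable (h : Shape H A)
include h

theorem exists_notMem : ∃ x ∈ H, x ∉ A := (SetLike.lt_iff_le_and_exists.1 h.lt).2

theorem inv {x a : G} (hx : x ∈ H) (hxA : x ∉ A) (ha : a ∈ A) : x * a * x⁻¹ = a⁻¹ := by
  have hxa : x * a ∉ A := fun e => hxA (by simpa using A.mul_mem e (A.inv_mem ha))
  have h1 := h.sq _ (H.mul_mem hx (h.lt.le ha)) hxa
  have h2 : x⁻¹ = x := inv_eq_of_mul_eq_one_right (h.sq x hx hxA)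
  rw [h2]
  calc x * a * x = x * a * (x * a) * a⁻¹ := by group
    _ = a⁻¹ := by rw [h1, one_mul]

theorem comm {a b : G} (ha : a ∈ A) (hb : b ∈ A) : a * b = b * a := by
  obtain ⟨x, hx, hxA⟩ := h.exists_notMem
  have h1 := h.inv hx hxA (A.mul_mem ha hb)
  have h2 : x * (a * b) * x⁻¹ = (x * a * x⁻¹) * (x * b * x⁻¹) := by group
  rw [h2, h.inv hx hxA ha, h.inv hx hxA hb] at h1
  calc a * b = ((a * b)⁻¹)⁻¹ := (inv_inv _).symm
    _ = (a⁻¹ * b⁻¹)⁻¹ := by rw [h1]
    _ = b * a := by group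

/-- Either exponent two, or two elements outside `A` multiply into `A`. -/
theorem cases : (∀ y ∈ H, y * y = 1) ∨
    ((∃ a ∈ A, a * a ≠ 1) ∧ ∀ x ∈ H, ∀ y ∈ H, x ∉ A → y ∉ A → x * y ∈ A) := by
  by_cases hA : ∀ a ∈ A, a * a = 1
  · refine .inl fun y hy => ?_
    by_cases hyA : y ∈ A
    · exact hA y hyA
    · exact h.sq y hy hyA
  push Not at hA
  obtain ⟨a, ha, ha2⟩ := hA
  refine .inr ⟨⟨a, ha, ha2⟩, fun x hx y hy hxA hyA => ?_⟩
  by_contra hxy
  have h1 := h.inv (H.mul_mem hx hy) hxy ha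
  have h2 : x * y * a * (x * y)⁻¹ = x * (y * a * y⁻¹) * x⁻¹ := by group
  rw [h2, h.inv hy hyA ha, h.inv hx hxA (A.inv_mem ha), inv_inv] at h1
  exact ha2 (by nth_rw 2 [h1]; exact mul_inv_cancel a)

/-- An involution of `A` is central in `H`. -/
theorem central {j y : G} (hj : j ∈ A) (hj2 : j * j = 1) (hy : y ∈ H) : y * j = j * y := by
  by_cases hyA : y ∈ A
  · exact h.comm hyA hj
  · have h1 := h.inv hy hyA hj
    rw [inv_eq_of_mul_eq_one_right hj2] at h1
    exact mul_inv_eq_iff_eq_mul.1 h1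

/-- If `A` has exponent more than two, central involutions of `H` lie in `A`. -/
theorem mem_of_central {a j : G} (ha : a ∈ A) (ha2 : a * a ≠ 1) (hj : j ∈ H)
    (hc : ∀ y ∈ H, y * j = j * y) : j ∈ A := by
  by_contra hjA
  have h1 := h.inv hj hjA ha
  rw [← hc a (h.lt.le ha), mul_inv_cancel_right] at h1
  exact ha2 (by nth_rw 2 [h1]; exact mul_inv_cancel a)

end Shape

end Cfsg.Agent.Lib.GenDihedral3322
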