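import Cfsg.Agent.Lib.GenDihedral3322.Basic
import Cfsg.Agent.Lib.CITSuzuki.TICase
import Cfsg.Agent.Lib.SylowInter.CharLocal
import Cfsg.Agent.Lib.LieTwisted.SuzukiStructure
import Cfsg.Agent.Lib.LieTwisted.SuzukiBruhat
import Cfsg.Agent.Lib.OddOrder.FeitThompson

/-!
# Elementary abelian centralizers of involutions

If a non-solvable finite group has an elementary abelian subgroup `H` of order at least four
containing the centralizer of each of its involutions, it is `PSL₂(2^n)`.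
-/

set_option autoImplicit false
set_option linter.style.haveILetI false

namespace Cfsg.Agent.Lib.GenDihedral3322

open Cfsg.Agent.Lib.Involutions.Basic

variable {G : Type*} [Group G] [Finite G] {H : Subgroup G}

/-- The hypothesis. -/
structure Elem (H : Subgroup G) : Prop where
  sq : ∀ y ∈ H, y * y = 1
  four : 4 ∣ Nat.card H
  cent : ∀ j ∈ H, orderOf j = 2 → Subgroup.centralizer ({j} : Set G) = H
  nonsolvable : ¬ Group.IsSolvable G

namespace Elem

variable (h : Elem H)
include h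

omit [Finite G] in
theorem orderOf_eq {y : G} (hy : y ∈ H) (hy1 : y ≠ 1) : orderOf y = 2 :=
  invol_iff.2 ⟨h.sq y hy, hy1⟩

omit [Finite G] in
theorem isPGroup : IsPGroup 2 H := fun y => ⟨1, Subtype.ext (by simpa [pow_two] using h.sq y y.2)⟩

theorem exists_invol : ∃ j ∈ H, orderOf j = 2 := by
  have hne : H ≠ ⊥ := fun e => by simpa [e] using h.four
  obtain ⟨j, hj, hj1⟩ := (Subgroup.ne_bot_iff_exists_ne_one.1 hne).imp fun a ha => And.intro a.2 ha
  exact ⟨_, hj, h.orderOf_eq hj fun e => hj1 (Subtype.ext e)⟩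

omit [Finite G] in
theorem comm_iff {j y : G} (hj : j ∈ H) (hj2 : orderOf j = 2) : y * j = j * y ↔ y ∈ H := by
  rw [← Subgroup.mem_centralizer_singleton_iff, h.cent j hj hj2]

/-- `H` is a Sylow 2-subgroup. -/
theorem eq_sylow (S : Sylow 2 G) (hS : H ≤ S) : (S : Subgroup G) = H := by
  haveI : Fact (Nat.Prime 2) := ⟨Nat.prime_two⟩
  obtain ⟨j, hj, hj2⟩ := h.exists_invol
  haveI : Nontrivial (S : Subgroup G) :=
    ⟨⟨⟨j, hS hj⟩, 1, fun e => invol_ne_one hj2 (congrArg Subtype.val e)⟩⟩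
  haveI := S.isPGroup'.center_nontrivial
  have hcp : IsPGroup 2 (Subgroup.center (S : Subgroup G)) := S.isPGroup'.to_subgroup _
  obtain ⟨n, hn, hc⟩ := hcp.nontrivial_iff_card.1 inferInstance
  obtain ⟨z, hz⟩ := exists_prime_orderOf_dvd_card' (G := Subgroup.center (S : Subgroup G)) 2
    (hc ▸ dvd_pow_self 2 hn.ne')
  have hz2 : orderOf ((z : (S : Subgroup G)) : G) = 2 := by
    rw [Subgroup.orderOf_coe, Subgroup.orderOf_coe, hz]
  have hcomm : ∀ s ∈ (S : Subgroup G), s * ((z : (S : Subgroup G)) : G) = (z : (S : Subgroup G)) * s :=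
    fun s hs => congrArg Subtype.val (Subgroup.mem_center_iff.1 z.2 ⟨s, hs⟩)
  have hzH : ((z : (S : Subgroup G)) : G) ∈ H := (h.comm_iff hj hj2).1 (hcomm j (hS hj)).symm
  exact le_antisymm (fun s hs => (h.comm_iff hzH hz2).1 (hcomm s hs)) hS

theorem exists_sylow : ∃ S : Sylow 2 G, (S : Subgroup G) = H := by
  obtain ⟨S, hS⟩ := h.isPGroup.exists_le_sylow
  exact ⟨S, h.eq_sylow S hS⟩

theorem not_normal : ¬ H.Normal := by
  intro hn
  haveI : Fact (Nat.Prime 2) := ⟨Nat.prime_two⟩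
  obtain ⟨S, rfl⟩ := h.exists_sylow
  haveI := hn
  haveI := S.isPGroup'.isNilpotent
  have hodd : Odd (Nat.card (G ⧸ (S : Subgroup G))) := by
    rw [← Subgroup.index_eq_card, ← Nat.not_even_iff_odd, even_iff_two_dvd]
    exact S.not_dvd_index
  haveI := OddOrder.FeitThompson.isSolvable_of_odd_card hodd
  exact h.nonsolvable (Group.isSolvable_of_ker_le_range (S : Subgroup G).subtype
    (QuotientGroup.mk' (S : Subgroup G)) (by simp))

omit [Finite G] in
/-- A conjugate of an involution of `H` lying in `H` comes from a conjugate equal to `H`. -/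
theorem mem_normalizer_of_conj {g j : G} (hj : j ∈ H) (hj2 : orderOf j = 2)
    (hgj : g * j * g⁻¹ ∈ H) : g ∈ Subgroup.normalizer (H : Set G) := by
  have hg2 : orderOf (g * j * g⁻¹) = 2 := (orderOf_conj_eq g j).trans hj2
  refine Subgroup.mem_normalizer_iff.2 fun y => ?_
  rw [← h.comm_iff hj hj2, ← h.comm_iff hgj hg2]
  constructor
  · intro e
    calc g * y * g⁻¹ * (g * j * g⁻¹) = g * (y * j) * g⁻¹ := by group
      _ = g * j * g⁻¹ * (g * y * g⁻¹) := by rw [e]; group
  · intro e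
    calc y * j = g⁻¹ * (g * y * g⁻¹ * (g * j * g⁻¹)) * g := by group
      _ = j * y := by rw [e]; group

/-- Two involutions of `H` are conjugate inside any subgroup containing `H` and not normalising it. -/
theorem isConj_in {K : Subgroup G} (hHK : H ≤ K) {n : G} (hnK : n ∈ K)
    (hn : n ∉ Subgroup.normalizer (H : Set G)) {t t' : G} (ht : t ∈ H) (ht2 : orderOf t = 2)
    (ht' : t' ∈ H) (ht'2 : orderOf t' = 2) : ∃ k ∈ K, k * t * k⁻¹ = t' := by
  obtain ⟨j, hj, hj2⟩ := h.exists_invol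
  set s := n * j * n⁻¹
  have hs2 : orderOf s = 2 := (orderOf_conj_eq n j).trans hj2
  have hsK : s ∈ K := K.mul_mem (K.mul_mem hnK (hHK hj)) (K.inv_mem hnK)
  have hsH : s ∉ H := fun e => hn (h.mem_normalizer_of_conj hj hj2 e)
  have key : ∀ u ∈ H, orderOf u = 2 → ∃ k ∈ K, k * u * k⁻¹ = s := by
    intro u hu hu2
    have hodd : Odd (orderOf (u * s)) := by
      rw [← Nat.not_even_iff_odd]
      intro heven
      obtain ⟨hz, hzu, hzs⟩ := central_invol hu2 hs2 heven
      have hzH := (h.comm_iff hu hu2).1 hzu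
      exact hsH ((h.comm_iff hzH hz).1 hzs.symm)
    obtain ⟨d, hd, hds⟩ := exists_conj_of_odd (invol_mul_self hu2) (invol_mul_self hs2) hodd
    exact ⟨d, ((Subgroup.closure_le K).2 (Set.insert_subset (hHK hu) (Set.singleton_subset_iff.2 hsK))) hd, hds⟩
  obtain ⟨a, ha, hat⟩ := key t ht ht2
  obtain ⟨b, hb, hbt⟩ := key t' ht' ht'2
  refine ⟨b⁻¹ * a, K.mul_mem (K.inv_mem hb) ha, ?_⟩
  calc b⁻¹ * a * t * (b⁻¹ * a)⁻¹ = b⁻¹ * (a * t * a⁻¹) * b := by group
    _ = t' := by rw [hat, ← hbt]; group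

/-- `G` is simple. -/
theorem isSimple : IsSimpleGroup G := by
  haveI : Fact (Nat.Prime 2) := ⟨Nat.prime_two⟩
  obtain ⟨j, hj, hj2⟩ := h.exists_invol
  haveI : Nontrivial G := ⟨⟨j, 1, invol_ne_one hj2⟩⟩
  refine ⟨fun N hN => ?_⟩
  rcases Nat.even_or_odd (Nat.card N) with heven | hodd
  · right
    obtain ⟨u, hu⟩ := exists_prime_orderOf_dvd_card' (G := N) 2 (even_iff_two_dvd.1 heven)
    have hu2 : orderOf (u : G) = 2 := by rw [Subgroup.orderOf_coe, hu]
    obtain ⟨S, hS⟩ := h.exists_sylow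
    -- a conjugate of `u` lies in `H`
    obtain ⟨P, hP⟩ := (IsPGroup.of_card (p := 2) (n := 1)
      (by rw [Nat.card_zpowers, hu2, pow_one] : Nat.card (Subgroup.zpowers (u : G)) = 2 ^ 1)).exists_le_sylow
    obtain ⟨g, hg⟩ := MulAction.exists_smul_eq G P S
    have hgu : g * u * g⁻¹ ∈ H := by
      rw [← hS, ← hg, Sylow.coe_subgroup_smul]
      exact Subgroup.smul_mem_pointwise_smul _ (MulAut.conj g) _ (hP (Subgroup.mem_zpowers _))
    have hguN : g * u * g⁻¹ ∈ N := hN.conj_mem _ u.2 g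
    have hgu2 : orderOf (g * u * g⁻¹) = 2 := (orderOf_conj_eq g _).trans hu2
    obtain ⟨n, hn⟩ : ∃ n, n ∉ Subgroup.normalizer (H : Set G) := by
      by_contra! hall
      exact h.not_normal (Subgroup.normalizer_eq_top_iff.1 (eq_top_iff.2 fun x _ => hall x))
    have hHN : H ≤ N := by
      intro y hy
      by_cases hy1 : y = 1
      · rw [hy1]; exact N.one_mem
      obtain ⟨k, -, hk⟩ := h.isConj_in le_top (Subgroup.mem_top n) hn hgu hgu2 hy (h.orderOf_eq hy hy1)
      exact hk ▸ hN.conj_mem _ hguN k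
    -- `H` is not normal in `N`
    obtain ⟨n', hn'N, hn'⟩ : ∃ n' ∈ N, n' ∉ Subgroup.normalizer (H : Set G) := by
      by_contra! hall
      apply h.not_normal
      haveI := hN
      have hSN : (S : Subgroup G) ≤ N := hS.le.trans hHN
      have hnor : ((S.subtype hSN : Sylow 2 N) : Subgroup N).Normal := by
        rw [Sylow.coe_subtype, hS]
        exact (Subgroup.normal_subgroupOf_iff_le_normalizer hHN).2 hall
      have hG : Subgroup.normalizer ((S : Subgroup G) : Set G) = ⊤ := by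
        have := Sylow.normalizer_sup_eq_top (S.subtype hSN)
        rw [Sylow.coe_subtype, Subgroup.map_subgroupOf_eq_of_le hSN] at this
        rw [← this, left_eq_sup]
        exact hS ▸ hall
      exact Subgroup.normalizer_eq_top_iff.1 (hS ▸ hG)
    rw [eq_top_iff]
    intro g' _
    haveI := hN
    have hSN : (S : Subgroup G) ≤ N := hS.le.trans hHN
    have hF := Sylow.normalizer_sup_eq_top (S.subtype hSN)
    rw [Sylow.coe_subtype, Subgroup.map_subgroupOf_eq_of_le hSN, hS] at hF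
    suffices hle : Subgroup.normalizer (H : Set G) ≤ N by
      rw [sup_of_le_right hle] at hF
      exact hF ▸ Subgroup.mem_top g'
    intro w hw
    have hwj : w * j * w⁻¹ ∈ H := (Subgroup.mem_normalizer_iff.1 hw j).1 hj
    obtain ⟨k, hk, hkj⟩ := h.isConj_in hHN hn'N hn' hj hj2 hwj ((orderOf_conj_eq w j).trans hj2)
    have hkw : k⁻¹ * w ∈ H := (h.comm_iff hj hj2).1 (by
      calc k⁻¹ * w * j = k⁻¹ * (w * j * w⁻¹) * w := by group
        _ = j * (k⁻¹ * w) := by rw [← hkj]; group)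
    simpa [mul_assoc] using N.mul_mem hk (hHN hkw)
  · left
    rw [Subgroup.eq_bot_iff_forall]
    have hfix : ∀ u ∈ H, orderOf u = 2 → ∀ x ∈ N, u * x * u = x⁻¹ := by
      intro u hu hu2
      refine SylowInter.CharLocal.inverts_of_fpf hodd (invol_mul_self hu2) (fun x hx => ?_) ?_
      · nth_rw 2 [← invol_inv hu2]
        exact hN.conj_mem _ hx u
      · intro x hx hc
        have hxH : x ∈ H := (h.comm_iff hu hu2).1 hc.symm
        by_contra hx1
        exact (odd_card_iff_no_invol N).1 hodd x hx (h.orderOf_eq hxH hx1)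
    intro x hx
    -- a second involution
    obtain ⟨k, hk, hk1, hkj⟩ : ∃ k ∈ H, k ≠ 1 ∧ k ≠ j := by
      by_contra! hall
      have hle : H ≤ Subgroup.zpowers j := fun y hy => by
        by_cases hy1 : y = 1
        · rw [hy1]; exact one_mem _
        · rw [hall y hy hy1]; exact Subgroup.mem_zpowers j
      have h1 := Nat.le_of_dvd Nat.card_pos h.four
      have h2 := Subgroup.card_le_of_le hle
      rw [Nat.card_zpowers, hj2] at h2
      omega
    have hjk : j * k ≠ 1 := fun e => hkj (by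
      rw [eq_inv_of_mul_eq_one_right e, invol_inv hj2])
    have e1 := hfix j hj hj2 x hx
    have e2 := hfix k hk (h.orderOf_eq hk hk1) x hx
    have e3 := hfix _ (H.mul_mem hj hk) (h.orderOf_eq (H.mul_mem hj hk) hjk) x hx
    have hk' := invol_inv (h.orderOf_eq hk hk1)
    have hcomm : j * k = k * j := ((h.comm_iff hj hj2).2 hk).symm
    have e4 : j * k * x * (j * k) = x := by
      calc j * k * x * (j * k) = j * (k * x * k) * j := by nth_rw 2 [hcomm]; group
        _ = j * x⁻¹ * j := by rw [e2]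
        _ = (j * x * j)⁻¹ := by rw [mul_inv_rev, mul_inv_rev, invol_inv hj2, mul_assoc]
        _ = x := by rw [e1, inv_inv]
    rw [e4] at e3
    by_contra hx1
    exact (odd_card_iff_no_invol N).1 hodd x hx (invol_iff.2 ⟨by nth_rw 2 [e3]; exact mul_inv_cancel x, hx1⟩)

/-- **The elementary abelian case.** -/
theorem exists_equiv_psl : ∃ (F : Type) (_ : Field F) (_ : Fintype F), 3 < Fintype.card F ∧
    Nonempty (G ≃* Matrix.ProjectiveSpecialLinearGroup (Fin 2) F) := by
  haveI : Fact (Nat.Prime 2) := ⟨Nat.prime_two⟩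
  haveI := h.isSimple
  have hna : ∃ a b : G, a * b ≠ b * a := by
    by_contra! hc
    exact h.nonsolvable (IsSimpleGroup.comm_iff_isSolvable.1 hc)
  obtain ⟨S, hS⟩ := h.exists_sylow
  have hinto : ∀ t : G, orderOf t = 2 → ∃ g : G, g * t * g⁻¹ ∈ H := by
    intro t ht
    obtain ⟨P, hP⟩ := (IsPGroup.of_card (p := 2) (n := 1)
      (by rw [Nat.card_zpowers, ht, pow_one] : Nat.card (Subgroup.zpowers t) = 2 ^ 1)).exists_le_sylow
    obtain ⟨g, hg⟩ := MulAction.exists_smul_eq G P S
    refine ⟨g, ?_⟩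
    rw [← hS, ← hg, Sylow.coe_subgroup_smul]
    exact Subgroup.smul_mem_pointwise_smul _ (MulAut.conj g) _ (hP (Subgroup.mem_zpowers _))
  have hCIT : CIT.IsCIT G := by
    intro t ht
    obtain ⟨g, hg⟩ := hinto t ht
    rintro ⟨c, hc⟩
    refine ⟨1, Subtype.ext ?_⟩
    have hgc : g * c * g⁻¹ ∈ H := (h.comm_iff hg ((orderOf_conj_eq g t).trans ht)).1 (by
      have hc' : c * t = t * c := Subgroup.mem_centralizer_singleton_iff.1 hc
      calc g * c * g⁻¹ * (g * t * g⁻¹) = g * (c * t) * g⁻¹ := by group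
        _ = _ := by rw [hc']; group)
    have h2 := h.sq _ hgc
    show c ^ (2 ^ 1) = 1
    calc c ^ (2 ^ 1) = g⁻¹ * (g * c * g⁻¹ * (g * c * g⁻¹)) * g := by rw [pow_one, pow_two]; group
      _ = 1 := by rw [h2]; group
  have hTI : ∀ T : Sylow 2 G, ∀ g : G, g ∉ Subgroup.normalizer ((T : Subgroup G) : Set G) →
      (T : Subgroup G) ⊓ (T : Subgroup G).map (MulAut.conj g).toMonoidHom = ⊥ := by
    intro T g hg
    rw [Subgroup.eq_bot_iff_forall]
    rintro x ⟨hx, y, hy, hyx⟩
    by_contra hx1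
    obtain ⟨c, hc⟩ := MulAction.exists_smul_eq G S T
    have hcmem : ∀ w, w ∈ (T : Subgroup G) ↔ c⁻¹ * w * c ∈ H := by
      intro w
      rw [← hc, Sylow.coe_subgroup_smul, Subgroup.mem_pointwise_smul_iff_inv_smul_mem, hS]
      simp [MulAut.smul_def]
    have hy1 : y ≠ 1 := fun e => hx1 (by rw [← hyx, e]; simp)
    have h1 := (hcmem x).1 hx
    have h2 := (hcmem y).1 hy
    have e : c⁻¹ * x * c = c⁻¹ * g * c * (c⁻¹ * y * c) * (c⁻¹ * g * c)⁻¹ := by
      rw [← hyx]; simp [MulAut.conj_apply, mul_assoc]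
    have h3 := h.mem_normalizer_of_conj (g := c⁻¹ * g * c) h2
      (h.orderOf_eq h2 fun e' => hy1 (by simpa [mul_assoc] using congrArg (fun w => c * w * c⁻¹) e'))
      (e ▸ h1)
    apply hg
    refine Subgroup.mem_normalizer_iff.2 fun w => ?_
    rw [hcmem, hcmem, Subgroup.mem_normalizer_iff.1 h3]
    simp [mul_assoc]
  rcases CITSuzuki.ti_case hna hCIT hTI with ⟨F, i1, i2, ⟨n, hn⟩, ⟨e⟩⟩ | ⟨F, i1, i2, m, hm, hF, ⟨e⟩⟩
  · refine ⟨F, i1, i2, ?_, ⟨e⟩⟩
    by_contra hle
    have hle' : n ≤ 1 := by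
      by_contra hlt
      have := Nat.pow_le_pow_right two_pos (show 2 ≤ n by omega)
      omega
    have h3 : Fintype.card F = 2 := by
      have := Fintype.one_lt_card (α := F)
      interval_cases n <;> omega
    obtain ⟨a, b, hab⟩ := hna
    have h4 : 4 ∣ Nat.card G := h.four.trans (Subgroup.card_subgroup_dvd_card H)
    have h6 := Linear.sub_one_mul_card_SL (F := F) 2 (by norm_num)
    have h7 := Linear.card_SL_eq_gcd_mul_card_PSL (ι := Fin 2) (F := F)
    rw [h3, Fin.prod_univ_two] at h6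
    rw [Fintype.card_fin, Nat.card_eq_fintype_card (α := F), h3] at h7
    norm_num [h7] at h6
    rw [Nat.card_congr e.toEquiv] at h4
    omega
  · exfalso
    have hk : LieTwisted.Suzuki.IsSzField F m := ⟨hF⟩
    let e' : G ≃* Cfsg.Sz F m := e.trans (LieTwisted.Suzuki.szEquiv hk hm).symm
    set t := e'.symm (LieTwisted.Suzuki.uS hk 1 0) with ht
    have hu2 : t * t = e'.symm (LieTwisted.Suzuki.uS hk 0 1) := by
      rw [ht, ← map_mul, hk.uS_mul]
      congr 2
      · linear_combination hk.two0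
      · simp [LieTwisted.Suzuki.sg_one]
    have hv : e'.symm (LieTwisted.Suzuki.uS hk 0 1) ≠ 1 := by
      rw [Ne, ← map_one e'.symm, e'.symm.injective.eq_iff, ← hk.uS_zero]
      exact fun q => one_ne_zero (hk.uS_coords_inj q).2
    have hv2 : e'.symm (LieTwisted.Suzuki.uS hk 0 1) * e'.symm (LieTwisted.Suzuki.uS hk 0 1) = 1 := by
      rw [← map_mul, hk.uS_mul, ← map_one e'.symm, ← hk.uS_zero]
      congr 2
      · simp
      · simp [LieTwisted.Suzuki.sg_zero, hk.two0, ← two_mul]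
    have hp : IsPGroup 2 (Subgroup.zpowers t) := by
      have h4 : t ^ 4 = 1 := by
        rw [show (4 : ℕ) = 2 * 2 from rfl, pow_mul, pow_two t, hu2, pow_two, hv2]
      obtain ⟨k, -, hk4⟩ := (Nat.dvd_prime_pow Nat.prime_two).1
        (orderOf_dvd_of_pow_eq_one (show t ^ 2 ^ 2 = 1 from h4))
      exact IsPGroup.of_card (n := k) (by rw [Nat.card_zpowers, hk4])
    obtain ⟨P, hP⟩ := hp.exists_le_sylow
    obtain ⟨g, hg⟩ := MulAction.exists_smul_eq G P S
    have hgt : g * t * g⁻¹ ∈ H := by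
      rw [← hS, ← hg, Sylow.coe_subgroup_smul]
      exact Subgroup.smul_mem_pointwise_smul _ (MulAut.conj g) _ (hP (Subgroup.mem_zpowers _))
    have h2 := h.sq _ hgt
    apply hv
    rw [← hu2]
    calc t * t = g⁻¹ * (g * t * g⁻¹ * (g * t * g⁻¹)) * g := by group
      _ = 1 := by rw [h2]; group

end Elem

end Cfsg.Agent.Lib.GenDihedral3322
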