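import Cfsg.Agent.Lib.GenDihedral3322.Model
import Cfsg.Agent.Lib.Classif.SelfCentralKlein
import Cfsg.Agent.Lib.TwoGroups.QuasiDihedral
import Cfsg.Agent.Lib.ZStar.StronglyClosed
import Cfsg.Agent.Lib.Fusion.Thompson
import Cfsg.Agent.S3224

/-!
# Generalized dihedral centralizers with one central involution

The Sylow 2-subgroups are dihedral: a semidihedral one would give an index two subgroup with
quaternion Sylow 2-subgroup, and modulo the core an involutory automorphism of a perfect group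
with at most two fixed points.  Then, given the Gorenstein–Walter theorem, `G/O(G)` is
`PSL(2,q)` or `PGL(2,q)`.
-/

set_option autoImplicit false
set_option linter.style.haveILetI false

universe u

namespace Cfsg.Agent.Lib.GenDihedral3322

open Cfsg.Agent.Lib.Involutions.Basic
open Cfsg.Agent.Lib.TwoGroups Cfsg.Agent.Lib.TwoGroups.QuasiDihedral
open Cfsg.Agent.Lib.TwoGroups.Recognition (powZ powZ_natCast)

variable {G : Type u} [Group G] {H A : Subgroup G} {t : G}

/-- The hypothesis: `A` has exponent more than two and `t` is its only involution. -/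
structure OneInvol (H A : Subgroup G) (t : G) : Prop where
  shape : Shape H A
  coset : ∀ x ∈ H, ∀ y ∈ H, x ∉ A → y ∉ A → x * y ∈ A
  mem : t ∈ A
  ord : orderOf t = 2
  uniq : ∀ a ∈ A, orderOf a = 2 → a = t
  cent : Subgroup.centralizer ({t} : Set G) = H
  nonsolvable : ¬ Group.IsSolvable G

namespace OneInvol

variable (h : OneInvol H A t)
include h

theorem mem_iff {y : G} : y * t = t * y ↔ y ∈ H := by
  rw [← Subgroup.mem_centralizer_singleton_iff, h.cent]

theorem eq_of_sq {a : G} (ha : a ∈ A) (ha2 : a * a = 1) : a = 1 ∨ a = t := by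
  by_cases h1 : a = 1
  · exact .inl h1
  · exact .inr (h.uniq a ha (invol_iff.2 ⟨ha2, h1⟩))

variable [Finite G]

omit h in
theorem oddCore_normal : (Cfsg.oddCore G).Normal := by unfold Cfsg.oddCore; infer_instance

omit h in
/-- Odd order elements are squares of their powers. -/
theorem mem_of_index_two {N : Subgroup G} (hN : N.index = 2) {o : G} (ho : Odd (orderOf o)) : o ∈ N := by
  obtain ⟨j, hj⟩ := ho
  have : o = o ^ (j + 1) * o ^ (j + 1) := by
    rw [← pow_add, show j + 1 + (j + 1) = orderOf o + 1 by omega, pow_succ, pow_orderOf_eq_one, one_mul]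
  rw [this]
  exact Subgroup.mul_self_mem_of_index_two hN _

omit h in
theorem odd_orderOf_core {o : G} (ho : o ∈ Cfsg.oddCore G) : Odd (orderOf o) :=
  (ZStar.Elements.oddCore_odd (G := G)).of_dvd_nat (Subgroup.orderOf_dvd_natCard _ ho)

/-- Modulo the core the centralizer of `t` is the image of `H`. -/
theorem lift {g : G} (hg : g * t * g⁻¹ * t⁻¹ ∈ Cfsg.oddCore G) :
    ∃ o ∈ Cfsg.oddCore G, ∃ y ∈ H, g = o * y := by
  set c := g * t * g⁻¹ * t⁻¹ with hc
  obtain ⟨j, hj⟩ := odd_orderOf_core hg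
  have hti := invol_inv h.ord
  have htc : t * c * t⁻¹ = c⁻¹ := by
    rw [hc]
    simp only [mul_inv_rev, inv_inv, mul_assoc, hti]
    rw [invol_mul_self h.ord, mul_one]
  set k := c ^ (j + 1) with hk
  have hkk : k * k = c := by
    rw [hk, ← pow_add, show j + 1 + (j + 1) = orderOf c + 1 by omega, pow_succ, pow_orderOf_eq_one, one_mul]
  have htk : t * k * t⁻¹ = k⁻¹ := by rw [hk, ← conj_pow, htc, inv_pow]
  refine ⟨k, pow_mem hg _, k⁻¹ * g, h.mem_iff.1 ?_, by group⟩
  calc k⁻¹ * g * t = k⁻¹ * (c * t) * g := by rw [hc]; group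
    _ = k⁻¹ * (k * k * t) * g := by rw [hkk]
    _ = t * (t⁻¹ * k * t) * g := by group
    _ = t * (k⁻¹ * g) := by
      rw [hti]
      rw [hti] at htk
      rw [htk, mul_assoc]

/-- A Sylow subgroup through a Sylow subgroup of `H`. -/
theorem exists_sylow : ∃ P : Sylow 2 G, t ∈ (P : Subgroup G) ∧
    (∃ x ∈ (P : Subgroup G), x ∈ H ∧ x ∉ A) ∧
    ∀ Q : Subgroup G, IsPGroup 2 Q → Q ≤ H → Nat.card Q ≤ Nat.card ↥((P : Subgroup G) ⊓ H) := by
  classical
  haveI : Fact (Nat.Prime 2) := ⟨Nat.prime_two⟩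
  have htH : t ∈ H := h.shape.lt.le h.mem
  obtain ⟨T, hT⟩ := (IsPGroup.of_card (p := 2) (n := 1)
    (by rw [Nat.card_zpowers, Subgroup.orderOf_mk, h.ord, pow_one] :
      Nat.card (Subgroup.zpowers (⟨t, htH⟩ : H)) = 2 ^ 1)).exists_le_sylow
  obtain ⟨P, hP⟩ := (T.isPGroup'.map H.subtype).exists_le_sylow
  refine ⟨P, hP ⟨_, hT (Subgroup.mem_zpowers _), rfl⟩, ?_, fun Q hQ hQH => ?_⟩
  · by_contra! hall
    have hTA : (T : Subgroup H) ≤ A.subgroupOf H := fun y hy => by
      by_contra hyA
      exact hyA (hall _ (hP ⟨y, hy, rfl⟩) y.2)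
    have hidx : (A.subgroupOf H).index = 2 := by
      rw [Subgroup.index_eq_two_iff']
      obtain ⟨x, hx, hxA⟩ := h.shape.exists_notMem
      refine ⟨⟨x, hx⟩, fun b => ?_⟩
      rw [Subgroup.mem_subgroupOf, Subgroup.mem_subgroupOf]
      show Xor (x * (b : G) ∈ A) ((b : G) ∈ A)
      by_cases hb : (b : G) ∈ A
      · exact .inr ⟨hb, fun e => hxA (by simpa using A.mul_mem e (A.inv_mem hb))⟩
      · exact .inl ⟨h.coset _ hx _ b.2 hxA hb, hb⟩
    have hd := Subgroup.index_dvd_of_le hTA
    rw [hidx] at hd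
    exact T.not_dvd_index hd
  · obtain ⟨R, hR⟩ := (hQ.comap_of_injective H.subtype H.subtype_injective).exists_le_sylow
    have h1 : Nat.card Q ≤ Nat.card R := by
      rw [← Nat.card_congr (Subgroup.subgroupOfEquivOfLe hQH).toEquiv]
      exact Subgroup.card_le_of_le hR
    have h2 : Nat.card R = Nat.card T := by rw [R.card_eq_multiplicity, T.card_eq_multiplicity]
    have h3 : Nat.card ((T : Subgroup H).map H.subtype) ≤ Nat.card ↥((P : Subgroup G) ⊓ H) :=
      Subgroup.card_le_of_le (le_inf hP (Subgroup.map_subtype_le _))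
    rw [Subgroup.card_map_of_injective H.subtype_injective] at h3
    exact h1.trans (h2.le.trans h3)

/-- In a 2-group inside `H` meeting `H \ A` in `x`, the centralizer of `x` has order four; and if
`A` meets it in exponent two, it has order four itself. -/
theorem four_of_exponent {T : Subgroup G} (hTH : T ≤ H) (ht : t ∈ T) {x : G} (hx : x ∈ T) (hxA : x ∉ A)
    (hexp : ∀ a ∈ T, a ∈ A → a * a = 1) : (T : Set G) = {1, t, x, x * t} := by
  have hxx := h.shape.sq x (hTH hx) hxA
  ext y
  simp only [SetLike.mem_coe, Set.mem_insert_iff, Set.mem_singleton_iff]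
  constructor
  · intro hy
    by_cases hyA : y ∈ A
    · rcases h.eq_of_sq hyA (hexp y hy hyA) with e | e
      · exact .inl e
      · exact .inr (.inl e)
    · have hxy := h.coset x (hTH hx) y (hTH hy) hxA hyA
      have e0 : y = x * (x * y) := by rw [← mul_assoc, hxx, one_mul]
      rcases h.eq_of_sq hxy (hexp _ (T.mul_mem hx hy) hxy) with e | e
      · exact .inr (.inr (.inl (by rw [e0, e, mul_one])))
      · exact .inr (.inr (.inr (by rw [e0, e])))
  · rintro (rfl | rfl | rfl | rfl)
    · exact T.one_mem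
    · exact ht
    · exact hx
    · exact T.mul_mem hx ht

theorem card_four {T : Subgroup G} (hTH : T ≤ H) (ht : t ∈ T) {x : G} (hx : x ∈ T) (hxA : x ∉ A)
    (hexp : ∀ a ∈ T, a ∈ A → a * a = 1) : Nat.card T = 4 := by
  classical
  rw [← SetLike.coe_sort_coe, Nat.card_coe_set_eq, h.four_of_exponent hTH ht hx hxA hexp]
  have h1 : x ≠ 1 := fun e => hxA (e ▸ A.one_mem)
  have h2 : x ≠ t := fun e => hxA (e ▸ h.mem)
  have h3 : x * t ≠ 1 := fun e => h2 (by rw [eq_inv_of_mul_eq_one_left e, invol_inv h.ord])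
  have h4 : x * t ≠ t := fun e => h1 (mul_eq_right.1 e)
  have h5 : x * t ≠ x := fun e => invol_ne_one h.ord (mul_eq_left.1 e)
  rw [Set.ncard_insert_of_notMem (by simp [(invol_ne_one h.ord).symm, h1.symm, h3.symm]),
    Set.ncard_insert_of_notMem (by simp [h2.symm, h4.symm]), Set.ncard_pair h5.symm]

/-- The Sylow 2-subgroup is not semidihedral. -/
theorem not_semidihedral {P : Sylow 2 G} (htP : t ∈ (P : Subgroup G))
    (hx : ∃ x ∈ (P : Subgroup G), x ∈ H ∧ x ∉ A)
    (hmax : ∀ Q : Subgroup G, IsPGroup 2 Q → Q ≤ H → Nat.card Q ≤ Nat.card ↥((P : Subgroup G) ⊓ H))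
    (hq : Cfsg.IsQuasiDihedral (P : Subgroup G)) : False := by
  classical
  haveI : Fact (Nat.Prime 2) := ⟨Nat.prime_two⟩
  obtain ⟨k, a, b, D⟩ := QuasiDihedral.exists_QD hq
  set c : ZMod (2 ^ (k + 3)) → (P : Subgroup G) := powZ (2 ^ (k + 3)) a with hcdef
  set z : G := (c (half k) : G) with hzdef
  obtain ⟨x, hxP, hxH, hxA⟩ := hx
  -- `P` is not inside `H`
  have hPH : ¬ (P : Subgroup G) ≤ H := by
    intro hle
    have hout : ∀ g : (P : Subgroup G), orderOf g ≠ 2 → g ≠ 1 → (g : G) ∈ A := by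
      intro g hg hg1
      by_contra hgA
      exact hg (invol_iff.2 ⟨Subtype.ext (h.shape.sq _ (hle g.2) hgA), hg1⟩)
    have hpar : ∀ i, par k i = 1 → ((c i * b : (P : Subgroup G)) : G) ∈ A := fun i hi => hout _
      (by rw [hcdef, orderOf_outer_odd D hi]; omega)
      (fun e => by
        have := orderOf_outer_odd D hi
        rw [hcdef] at e
        rw [e, orderOf_one] at this
        omega)
    have ha1 : ((c 1 : (P : Subgroup G)) : G) ∈ A := by
      have ho : orderOf (c 1) = 2 ^ (k + 3) := by rw [hcdef, x_eq D, D.orderOf_x]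
      have : 8 ≤ 2 ^ (k + 3) := Nat.pow_le_pow_right two_pos (show 3 ≤ k + 3 by omega)
      exact hout _ (by omega) (fun e => by rw [e, orderOf_one] at ho; omega)
    have hb : ((b : (P : Subgroup G)) : G) ∈ A := by
      have := A.mul_mem (A.inv_mem ha1) (hpar 1 (map_one _))
      simpa using this
    have hci : ∀ i, ((c i : (P : Subgroup G)) : G) ∈ A := fun i => by
      rw [hcdef, ← ZMod.natCast_zmod_val i, powZ_natCast D.pow_N, Subgroup.coe_pow]
      have hc1 : c 1 = a := x_eq D
      exact A.pow_mem (hc1 ▸ ha1) _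
    rcases D.cases (⟨x, hxP⟩ : (P : Subgroup G)) with ⟨i, hi⟩ | ⟨i, hi⟩ <;>
      have hi' := congrArg Subtype.val hi
    · exact hxA (by rw [show x = ((c i : (P : Subgroup G)) : G) by simpa using hi']; exact hci i)
    · exact hxA (by
        rw [show x = ((c i : (P : Subgroup G)) : G) * b by simpa using hi']
        exact A.mul_mem (hci i) hb)
  have hz2 : orderOf z = 2 := by rw [hzdef, Subgroup.orderOf_coe, hcdef, orderOf_half D]
  have hzc : ∀ p ∈ (P : Subgroup G), p * z = z * p := fun p hp =>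
    congrArg Subtype.val (Subgroup.mem_center_iff.1 (half_mem_center D) ⟨p, hp⟩)
  have hzH : z ∈ H := h.mem_iff.1 (hzc t htP).symm
  have hzA : z ∉ A := fun hzA => hPH fun p hp => h.mem_iff.1 (h.uniq z hzA hz2 ▸ hzc p hp)
  have hzP : z ∈ (P : Subgroup G) := (c (half k)).2
  have h4 : Nat.card ↥((P : Subgroup G) ⊓ H) = 4 := by
    refine h.card_four inf_le_right ⟨htP, h.shape.lt.le h.mem⟩ ⟨hzP, hzH⟩ hzA fun w hw hwA => ?_
    have h1 := h.shape.inv hzH hzA hwA
    rw [← hzc w hw.1, mul_inv_cancel_right] at h1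
    nth_rw 2 [h1]
    exact mul_inv_cancel w
  have hP16 : 16 ≤ Nat.card (P : Subgroup G) := by
    rw [QuasiDihedral.card_eq D]
    calc (16 : ℕ) = 2 ^ 4 := by norm_num
      _ ≤ _ := Nat.pow_le_pow_right two_pos (by omega)
  have hnz : ∀ g : G, g * z * g⁻¹ ≠ t := by
    intro g hg
    have := hmax ((P : Subgroup G).map (MulAut.conj g).toMonoidHom) (P.isPGroup'.map _) (by
      rintro _ ⟨p, hp, rfl⟩
      refine h.mem_iff.1 ?_
      rw [← hg]
      show g * p * g⁻¹ * (g * z * g⁻¹) = g * z * g⁻¹ * (g * p * g⁻¹)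
      calc g * p * g⁻¹ * (g * z * g⁻¹) = g * (p * z) * g⁻¹ := by group
        _ = _ := by rw [hzc p hp]; group)
    rw [Subgroup.card_map_of_injective (MulAut.conj g).injective, h4] at this
    omega
  have htz : t ≠ z := fun e => hnz 1 (by rw [e]; group)
  -- a subgroup of index two avoiding `t`
  set M := (maxSub D 1).map (P : Subgroup G).subtype with hM
  have hMinv : ∀ w ∈ M, orderOf w = 2 → w = z := by
    rintro _ ⟨w, hw, rfl⟩ hw2
    have hw2' : orderOf w = 2 := by rwa [Subgroup.coe_subtype, Subgroup.orderOf_coe] at hw2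
    rcases orderOf_two_cases D hw2' with e | ⟨i, hi, e⟩
    · rw [e, hzdef, hcdef]; rfl
    · rw [e] at hw
      have := (mem_maxSub_cy D).1 hw
      rw [hi] at this
      exact absurd this zero_ne_one
  have hMidx : M.index % 4 = 2 := by
    have h1 := M.card_mul_index
    have h2 := (P : Subgroup G).card_mul_index
    have h3 : ¬ 2 ∣ (P : Subgroup G).index := P.not_dvd_index
    rw [hM, Subgroup.card_map_of_injective (P : Subgroup G).subtype_injective, card_maxSub D, ← hM,
      ← h2, QuasiDihedral.card_eq D, show 2 ^ (k + 4) = 2 ^ (k + 3) * 2 by ring, mul_assoc] at h1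
    have := Nat.eq_of_mul_eq_mul_left (by positivity) h1
    omega
  haveI : Finite (G ⧸ M) := Quotient.finite _
  obtain ⟨N, hN, htN⟩ := Fusion.Thompson.exists_index_two_of_fixedPointFree (G := G) (α := G ⧸ M)
    (by rw [← Subgroup.index_eq_card]; exact hMidx) t h.ord (fun q => by
      induction q using QuotientGroup.induction_on with
      | H g =>
        intro he
        rw [MulAction.Quotient.smul_mk, smul_eq_mul, QuotientGroup.eq] at he
        have he' : g⁻¹ * t * g ∈ M := by
          have := M.inv_mem he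
          simpa [mul_assoc] using this
        have := hMinv _ he' (by
          have := orderOf_conj_eq g⁻¹ t
          rw [inv_inv] at this
          rw [this, h.ord])
        exact hnz g (by rw [← this]; group))
  haveI hNn : N.Normal := Subgroup.normal_of_index_eq_two hN
  -- the unique involution of `P ⊓ N`
  have hzN : z ∈ N := by
    have : z = (c (quarter k) : G) * c (quarter k) := by
      rw [hzdef, ← Subgroup.coe_mul, hcdef, D.mul_cc, quarter_add_quarter]
    rw [this]
    exact Subgroup.mul_self_mem_of_index_two hN _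
  have huni : ∀ w ∈ (P : Subgroup G), w ∈ N → orderOf w = 2 → w = z := by
    intro w hw hwN hw2
    rcases orderOf_two_cases D (g := ⟨w, hw⟩) (by rw [Subgroup.orderOf_mk, hw2]) with e | ⟨i, hi, e⟩
    · exact congrArg Subtype.val e
    exfalso
    rcases orderOf_two_cases D (g := ⟨t, htP⟩) (by rw [Subgroup.orderOf_mk, h.ord]) with e' | ⟨j, hj, e'⟩
    · exact htz (congrArg Subtype.val e')
    obtain ⟨d, hd⟩ := exists_conj_outer D (hi.trans hj.symm)
    apply htN
    have := congrArg Subtype.val hd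
    rw [← e, ← e'] at this
    have e2 : ((c d : (P : Subgroup G)) : G) * w * ((c d : (P : Subgroup G)) : G)⁻¹ = t := this
    rw [← e2]
    exact hNn.conj_mem _ hwN _
  obtain ⟨T, hT⟩ := (P.isPGroup'.comap_of_injective N.subtype N.subtype_injective).exists_le_sylow
  have hTP : (T : Subgroup N).map N.subtype = (P : Subgroup G) ⊓ N := by
    refine (Subgroup.eq_of_le_of_card_ge ?_ ?_).symm
    · exact fun w hw => ⟨⟨w, hw.2⟩, hT hw.1, rfl⟩
    · obtain ⟨R, hR⟩ := (T.isPGroup'.map N.subtype).exists_le_sylow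
      obtain ⟨g, hg⟩ := MulAction.exists_smul_eq G R P
      have hle : ((T : Subgroup N).map N.subtype).map (MulAut.conj g).toMonoidHom ≤ (P : Subgroup G) ⊓ N := by
        rintro _ ⟨w, hw, rfl⟩
        refine ⟨?_, ?_⟩
        · show g * w * g⁻¹ ∈ (P : Subgroup G)
          rw [← hg, Sylow.coe_subgroup_smul]
          exact Subgroup.smul_mem_pointwise_smul _ (MulAut.conj g) _ (hR hw)
        · obtain ⟨v, -, rfl⟩ := hw
          exact hNn.conj_mem _ v.2 g
      have := Subgroup.card_le_of_le hle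
      rwa [Subgroup.card_map_of_injective (MulAut.conj g).injective] at this
  have hiso : ZStar.Elements.IsolatedIn T (⟨z, hzN⟩ : N) := by
    refine ⟨hT hzP, fun g hg => Subtype.ext ?_⟩
    have hmem : ((g * ⟨z, hzN⟩ * g⁻¹ : N) : G) ∈ (P : Subgroup G) ⊓ N := hTP ▸ ⟨_, hg, rfl⟩
    exact huni _ hmem.1 hmem.2 ((orderOf_conj_eq (g : G) z).trans hz2)
  have hzO : ∀ n ∈ N, z * n * z⁻¹ * n⁻¹ ∈ Cfsg.oddCore G := by
    intro n hn
    have h1 := ZStar.Elements.commutator_mem_oddCore ZStar.StronglyClosed.involutionThm _ N T ⟨z, hzN⟩ rfl hiso ⟨n, hn⟩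
    have hle : (Cfsg.oddCore N).map N.subtype ≤ Cfsg.oddCore G := by
      haveI : ((Cfsg.oddCore N).map N.subtype).Normal := Cores.normal_map_subtype N _
      refine Cores.le_oddCore ?_
      rw [Subgroup.card_map_of_injective N.subtype_injective]
      exact ZStar.Elements.oddCore_odd
    exact hle ⟨_, h1, rfl⟩
  -- the involutory automorphism with two fixed points
  set O := Cfsg.oddCore G with hO
  haveI hOn : O.Normal := oddCore_normal
  let π := QuotientGroup.mk' O
  have hπ : ∀ {u v : G}, π u = π v → u⁻¹ * v ∈ O := fun {u v} e => QuotientGroup.eq.1 e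
  have hnsX : ¬ Group.IsSolvable (⊤ : Subgroup (G ⧸ O)) := by
    intro hs
    haveI := hs
    haveI : Group.IsSolvable (G ⧸ O) := Group.isSolvable_of_surjective (f := (⊤ : Subgroup (G ⧸ O)).subtype)
      (fun x => ⟨⟨x, trivial⟩, rfl⟩)
    haveI := OddOrder.FeitThompson.isSolvable_of_odd_card (ZStar.Elements.oddCore_odd (G := G))
    exact h.nonsolvable (Group.isSolvable_of_ker_le_range O.subtype π (by simp [π]))
  obtain ⟨R, -, hRn, hRne, hRR, -⟩ := RecogThree.M12.Graph.Perfect.exists_perfect _ hnsX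
  haveI := hRn
  have hRN : R ≤ N.map π := by
    rw [← hRR, Subgroup.commutator_le]
    intro u _ v _
    obtain ⟨g, rfl⟩ := QuotientGroup.mk'_surjective O u
    obtain ⟨g', rfl⟩ := QuotientGroup.mk'_surjective O v
    refine ⟨g * g' * g⁻¹ * g'⁻¹, ?_, by rw [map_mul, map_mul, map_mul, map_inv, map_inv, commutatorElement_def]⟩
    rw [SetLike.mem_coe]
    simp only [Subgroup.mul_mem_iff_of_index_two hN, inv_mem_iff]
    tauto
  have h3 := Classif.SelfCentralKlein.three_le_fixed (x := π t) (by rw [← map_mul, invol_mul_self h.ord, map_one]) R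
    (RecogThree.M12.Graph.Perfect.commutator_eq_top hRR ▸ rfl) hRne
  have hfix : ((R ⊓ Subgroup.centralizer ({π t} : Set (G ⧸ O)) : Subgroup (G ⧸ O)) : Set (G ⧸ O)) ⊆ {1, π z} := by
    rintro q ⟨hqR, hqC⟩
    obtain ⟨g, hgN, rfl⟩ := hRN hqR
    have hcm := Subgroup.mem_centralizer_singleton_iff.1 hqC
    have hgt : g * t * g⁻¹ * t⁻¹ ∈ O := by
      rw [← QuotientGroup.eq_one_iff]
      show π (g * t * g⁻¹ * t⁻¹) = 1
      rw [map_mul, map_mul, map_mul, map_inv, map_inv, hcm]
      group
    obtain ⟨o, ho, y, hy, rfl⟩ := h.lift hgt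
    have hπo : π o = 1 := (QuotientGroup.eq_one_iff o).2 ho
    have hoN : o ∈ N := mem_of_index_two hN (odd_orderOf_core ho)
    have hyN : y ∈ N := (Subgroup.mul_mem_cancel_left N hoN).1 hgN
    rw [map_mul, hπo, one_mul]
    have key : ∀ w ∈ A, w ∈ N → π w = 1 := by
      intro w hwA hwN
      have hodd : Odd (orderOf w) := by
        rw [← Nat.not_even_iff_odd]
        intro hev
        obtain ⟨m, hm⟩ := hev
        have hpos := orderOf_pos w
        have hwm : w ^ m * w ^ m = 1 := by rw [← pow_add, ← hm, pow_orderOf_eq_one]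
        rcases h.eq_of_sq (A.pow_mem hwA m) hwm with e | e
        · have := Nat.le_of_dvd (by omega) (orderOf_dvd_of_pow_eq_one e)
          omega
        · exact htN (e ▸ N.pow_mem hwN m)
      have h1 := h.shape.inv hzH hzA hwA
      have h2 : π (z * w * z⁻¹ * w⁻¹) = 1 := (QuotientGroup.eq_one_iff _).2 (hzO w hwN)
      rw [h1, map_mul] at h2
      obtain ⟨j, hj⟩ := hodd
      have h3' : π w * π w = 1 := by
        have := congrArg (·⁻¹) h2
        simpa using this
      have : w = (w * w) ^ (j + 1) := by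
        rw [← pow_two, ← pow_mul, show 2 * (j + 1) = orderOf w + 1 by omega, pow_succ, pow_orderOf_eq_one,
          one_mul]
      rw [this, map_pow, map_mul, h3', one_pow]
    by_cases hyA : y ∈ A
    · exact Or.inl (key y hyA hyN)
    · refine Or.inr ?_
      have h1 := key _ (h.coset z hzH y hy hzA hyA) (N.mul_mem hzN hyN)
      rw [map_mul] at h1
      show π y = π z
      rw [eq_inv_of_mul_eq_one_right h1, ← map_inv, invol_inv hz2]
  have h2 : (({1, π z} : Set (G ⧸ O))).ncard ≤ 2 :=
    (Set.ncard_insert_le _ _).trans (by rw [Set.ncard_singleton])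
  have h1 := Set.ncard_le_ncard hfix (Set.toFinite _)
  rw [← SetLike.coe_sort_coe, Nat.card_coe_set_eq] at h3
  omega

/-- The Sylow 2-subgroups are dihedral. -/
theorem hasDihedralSylow : GorensteinWalter.HasDihedralSylow G := by
  classical
  haveI : Fact (Nat.Prime 2) := ⟨Nat.prime_two⟩
  obtain ⟨P, htP, hxx, hmax⟩ := h.exists_sylow
  suffices hP : ∃ n, 2 ≤ n ∧ Nonempty ((P : Subgroup G) ≃* DihedralGroup n) by
    intro S
    obtain ⟨n, hn, ⟨e⟩⟩ := hP
    exact ⟨n, hn, ⟨(S.equiv P).trans e⟩⟩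
  obtain ⟨x, hxP, hxH, hxA⟩ := hxx
  have hxx : x * x = 1 := h.shape.sq x hxH hxA
  have htH : t ∈ H := h.shape.lt.le h.mem
  -- an involution with centralizer of order four in `P`
  obtain ⟨w, hw2, hw⟩ : ∃ w : (P : Subgroup G), orderOf w = 2 ∧
      Nat.card (Subgroup.centralizer ({w} : Set (P : Subgroup G))) = 4 := by
    by_cases hPH : (P : Subgroup G) ≤ H
    · refine ⟨⟨x, hxP⟩, invol_iff.2 ⟨Subtype.ext hxx, fun e => hxA (by rw [show x = 1 from congrArg Subtype.val e]; exact A.one_mem)⟩, ?_⟩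
      have := h.card_four (T := (Subgroup.centralizer ({⟨x, hxP⟩} : Set (P : Subgroup G))).map
          (P : Subgroup G).subtype) ((Subgroup.map_subtype_le _).trans hPH)
        ⟨⟨t, htP⟩, Subgroup.mem_centralizer_singleton_iff.2 (Subtype.ext (h.mem_iff.2 hxH).symm), rfl⟩
        (x := x) ⟨⟨x, hxP⟩, Subgroup.mem_centralizer_singleton_iff.2 rfl, rfl⟩ hxA (by
          rintro _ ⟨y, hy, rfl⟩ hyA
          have h1 : (y : G) * x = x * y := congrArg Subtype.val (Subgroup.mem_centralizer_singleton_iff.1 hy)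
          have h2 := h.shape.inv hxH hxA hyA
          rw [Subgroup.coe_subtype] at h2 hyA ⊢
          rw [← h1, mul_inv_cancel_right] at h2
          nth_rw 2 [h2]
          exact mul_inv_cancel _)
      rwa [Subgroup.card_map_of_injective (P : Subgroup G).subtype_injective] at this
    · refine ⟨⟨t, htP⟩, by rw [Subgroup.orderOf_mk, h.ord], ?_⟩
      haveI : Nontrivial (P : Subgroup G) :=
        ⟨⟨⟨t, htP⟩, 1, fun e => invol_ne_one h.ord (congrArg Subtype.val e)⟩⟩
      haveI := P.isPGroup'.center_nontrivial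
      obtain ⟨m, hm, hcard⟩ :=
        (P.isPGroup'.to_subgroup (Subgroup.center (P : Subgroup G))).nontrivial_iff_card.1 inferInstance
      obtain ⟨z, hz⟩ := exists_prime_orderOf_dvd_card' (G := Subgroup.center (P : Subgroup G)) 2
        (hcard ▸ dvd_pow_self 2 hm.ne')
      have hz2 : orderOf ((z : (P : Subgroup G)) : G) = 2 := by
        rw [Subgroup.orderOf_coe, Subgroup.orderOf_coe, hz]
      have hzc : ∀ p ∈ (P : Subgroup G), p * ((z : (P : Subgroup G)) : G) = (z : (P : Subgroup G)) * p :=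
        fun p hp => congrArg Subtype.val (Subgroup.mem_center_iff.1 z.2 ⟨p, hp⟩)
      have hzH : ((z : (P : Subgroup G)) : G) ∈ H := h.mem_iff.1 (hzc t htP).symm
      have hzA : ((z : (P : Subgroup G)) : G) ∉ A := fun hzA =>
        hPH fun p hp => h.mem_iff.1 (h.uniq _ hzA hz2 ▸ hzc p hp)
      have := h.card_four (T := (Subgroup.centralizer ({⟨t, htP⟩} : Set (P : Subgroup G))).map
          (P : Subgroup G).subtype) (by
            rintro _ ⟨y, hy, rfl⟩
            exact h.mem_iff.1 (congrArg Subtype.val (Subgroup.mem_centralizer_singleton_iff.1 hy)))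
        ⟨⟨t, htP⟩, Subgroup.mem_centralizer_singleton_iff.2 rfl, rfl⟩
        (x := ((z : (P : Subgroup G)) : G)) ⟨z, Subgroup.mem_centralizer_singleton_iff.2 (Subtype.ext
          (hzc t htP).symm), rfl⟩ hzA (by
          rintro _ ⟨y, hy, rfl⟩ hyA
          have h2 := h.shape.inv hzH hzA hyA
          rw [Subgroup.coe_subtype] at h2 hyA ⊢
          rw [← hzc _ y.2, mul_inv_cancel_right] at h2
          nth_rw 2 [h2]
          exact mul_inv_cancel _)
      rwa [Subgroup.card_map_of_injective (P : Subgroup G).subtype_injective] at this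
  rcases S3224.result P.isPGroup' w hw2 hw with ⟨n, ⟨e⟩⟩ | hq | h4
  · refine ⟨n, ?_, ⟨e⟩⟩
    have h1 := Nat.card_congr e.toEquiv
    rw [DihedralGroup.nat_card] at h1
    have h2 := Subgroup.card_le_card_group (Subgroup.centralizer ({w} : Set (P : Subgroup G)))
    omega
  · exact (h.not_semidihedral htP ⟨x, hxP, hxH, hxA⟩ hmax hq).elim
  · refine ⟨2, le_rfl, ?_⟩
    have hxt : x * t = t * x := h.mem_iff.2 hxH
    refine Recognition.nonempty_dihedral_subgroup (m := 2) (a := t) (b := x) htP hxP h.ord hxx ?_ ?_ ?_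
    · rw [invol_inv h.ord, hxt, mul_inv_cancel_right]
    · intro hm
      obtain ⟨i, rfl⟩ := hm
      exact hxA (A.zpow_mem h.mem i)
    · rw [h4]

/-- **The case of one central involution.** -/
theorem exists_quotient (hGW : GWConsumers12.GWPerfect.{u}) :
    ∃ (N : Subgroup G) (_ : N.Normal), Odd (Nat.card N) ∧
      ∃ (F : Type) (_ : Field F) (_ : Fintype F), 3 < Fintype.card F ∧
        (Nonempty (G ⧸ N ≃* Matrix.ProjectiveSpecialLinearGroup (Fin 2) F) ∨
          Nonempty (G ⧸ N ≃* Matrix.ProjGenLinGroup (Fin 2) F)) := by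
  classical
  haveI : Fact (Nat.Prime 2) := ⟨Nat.prime_two⟩
  set O := Cfsg.oddCore G with hO
  haveI hOn : O.Normal := oddCore_normal
  let π := QuotientGroup.mk' O
  have hO1 : ∀ o ∈ O, π o = 1 := fun o ho => (QuotientGroup.eq_one_iff o).2 ho
  have hnot : t ∉ O := fun e => by
    have := odd_orderOf_core e
    rw [h.ord] at this
    exact absurd this (by decide)
  have hX : OneCent (H.map π) (A.map π) (π t) := by
    refine ⟨⟨t, h.mem, rfl⟩, invol_iff.2 ⟨by rw [← map_mul, invol_mul_self h.ord, map_one],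
      fun e => hnot ((QuotientGroup.eq_one_iff t).1 e)⟩, Subgroup.map_mono h.shape.lt.le, ?_, ?_, ?_, ?_, ?_⟩
    · ext q
      rw [Subgroup.mem_centralizer_singleton_iff]
      constructor
      · intro hq
        obtain ⟨g, rfl⟩ := QuotientGroup.mk'_surjective O q
        have hgt : g * t * g⁻¹ * t⁻¹ ∈ O := by
          rw [← QuotientGroup.eq_one_iff]
          show π (g * t * g⁻¹ * t⁻¹) = 1
          have hq' : π g * π t = π t * π g := hq
          rw [map_mul, map_mul, map_mul, map_inv, map_inv, hq']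
          group
        obtain ⟨o, ho, y, hy, rfl⟩ := h.lift hgt
        exact ⟨y, hy, by rw [map_mul, hO1 o ho, one_mul]⟩
      · rintro ⟨y, hy, rfl⟩
        rw [← map_mul, h.mem_iff.2 hy, map_mul]
    · rintro _ ⟨a, ha, rfl⟩ _ ⟨b, hb, rfl⟩
      rw [← map_mul, h.shape.comm ha hb, map_mul]
    · rintro _ ⟨a, ha, rfl⟩ hsq
      rw [← map_mul] at hsq
      have hodd := odd_orderOf_core ((QuotientGroup.eq_one_iff _).1 hsq)
      have hd : a ^ orderOf (a * a) * a ^ orderOf (a * a) = 1 := by
        rw [← pow_add, ← two_mul, pow_mul, pow_two, pow_orderOf_eq_one]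
      have hpi : π (a ^ orderOf (a * a)) = π a := by
        obtain ⟨j, hj⟩ := hodd
        rw [hj, pow_succ, pow_mul, pow_two, map_mul, map_pow, hsq, one_pow, one_mul]
      rcases h.eq_of_sq (A.pow_mem ha _) hd with e | e <;> rw [e] at hpi
      · exact .inl (hpi.symm.trans (map_one π))
      · exact .inr hpi.symm
    · rintro _ ⟨y, hy, rfl⟩ hyA
      rw [← map_mul, h.shape.sq y hy (fun e => hyA ⟨y, e, rfl⟩), map_one]
    · rintro _ ⟨y, hy, rfl⟩ _ ⟨z, hz, rfl⟩ hyA hzA
      exact ⟨y * z, h.coset y hy z hz (fun e => hyA ⟨y, e, rfl⟩) (fun e => hzA ⟨z, e, rfl⟩), map_mul π y z⟩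
  have hnsX : ¬ Group.IsSolvable (G ⧸ O) := fun hs => by
    haveI := hs
    haveI := OddOrder.FeitThompson.isSolvable_of_odd_card (ZStar.Elements.oddCore_odd (G := G))
    exact h.nonsolvable (Group.isSolvable_of_ker_le_range O.subtype π (by simp [π]))
  have hOX : Cfsg.oddCore (G ⧸ O) = ⊥ :=
    ZStar.Elements.quotient_oddCore (Cfsg.oddCore (G ⧸ O)) oddCore_normal ZStar.Elements.oddCore_odd
  have hDX : GorensteinWalter.HasDihedralSylow (G ⧸ O) := by
    intro S
    obtain ⟨P⟩ : Nonempty (Sylow 2 G) := inferInstance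
    obtain ⟨n, hn, ⟨e⟩⟩ := h.hasDihedralSylow P
    let P' := P.mapSurjective (QuotientGroup.mk'_surjective O)
    have hdisj : (P : Subgroup G) ⊓ O = ⊥ := by
      rw [Subgroup.eq_bot_iff_forall]
      rintro p ⟨hp, hpO⟩
      obtain ⟨j, hj⟩ := IsPGroup.iff_orderOf.1 P.isPGroup' ⟨p, hp⟩
      rw [Subgroup.orderOf_mk] at hj
      have := odd_orderOf_core hpO
      rw [hj] at this
      rcases j with _ | j
      · exact orderOf_eq_one_iff.1 hj
      · exact absurd this (by simp [← Nat.not_even_iff_odd, Nat.even_pow])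
    have hinj : Function.Injective (π.comp (P : Subgroup G).subtype) := by
      refine (injective_iff_map_eq_one _).2 fun p hp => Subtype.ext ?_
      have : (p : G) ∈ (P : Subgroup G) ⊓ O := ⟨p.2, (QuotientGroup.eq_one_iff _).1 hp⟩
      rwa [hdisj, Subgroup.mem_bot] at this
    have hrange : (π.comp (P : Subgroup G).subtype).range = (P' : Subgroup (G ⧸ O)) := by
      rw [MonoidHom.range_comp, Subgroup.range_subtype]
      rfl
    exact ⟨n, hn, ⟨((S.equiv P').trans ((MulEquiv.subgroupCongr hrange.symm).trans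
      (MonoidHom.ofInjective hinj).symm)).trans e⟩⟩
  obtain ⟨F, i1, i2, hF, hiso⟩ := exists_equiv hGW hX hOX hDX hnsX
  exact ⟨O, hOn, ZStar.Elements.oddCore_odd, F, i1, i2, hF, hiso⟩

end OneInvol

end Cfsg.Agent.Lib.GenDihedral3322
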