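import Cfsg.Agent.Lib.PSLTwo.TripleFactor

/-!
# Endomorphisms of `SL(2,F)`, `F` of characteristic two, fixing the upper unitriangular group

Such an injective endomorphism is conjugation by an upper unitriangular element.
-/

set_option autoImplicit false

namespace Cfsg.Agent.Lib.GenDihedral3322

open Cfsg.Agent.Lib.PSLTwo.Sylow
open Cfsg.Agent.Lib.PSLTwo.TripleFactor (uu)

variable {F : Type*} [Field F] [Fintype F] [CharP F 2]

local notation "SL" => Matrix.SpecialLinearGroup (Fin 2) F
local notation "uE" c:max => uu (Multiplicative.ofAdd c)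

/-- The swap. -/
def swapSL : SL := mk2 0 1 1 0 (by simp [CharTwo.neg_eq])

theorem uu_mul_self (c : F) : uE c * uE c = (1 : SL) := by
  rw [← MonoidHom.map_mul, ← ofAdd_add, CharTwo.add_self_eq_zero, ofAdd_zero, MonoidHom.map_one]

omit [CharP F 2] in
theorem uu_comm (c d : F) : uE c * uE d = (uE d * uE c : SL) := by
  rw [← MonoidHom.map_mul, ← MonoidHom.map_mul, mul_comm (Multiplicative.ofAdd c)]

theorem swap_mul_self : swapSL * swapSL = (1 : SL) := by
  apply slExt <;> simp [swapSL, mul_apply', one_apply']

/-- Every element is a word in the upper unitriangular group and the swap. -/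
theorem eq_word {g : SL} (hc : g.1 1 0 ≠ 0) :
    g = uE ((g.1 0 0 + 1) / g.1 1 0) * (swapSL * uE (g.1 1 0) * swapSL) *
      uE ((g.1 1 1 + 1) / g.1 1 0) := by
  have hd := det_eq g
  have h2 : (2 : F) = 0 := CharTwo.two_eq_zero
  apply slExt <;> simp [uu, swapSL, mul_apply'] <;> field_simp
  · linear_combination -h2
  · linear_combination -hd - (g.1 1 1 + g.1 0 0 + 2) * h2
  · linear_combination -h2

/-- A hom agreeing with `φ` on the upper unitriangular group and the swap equals it. -/
theorem hom_ext {σ φ : SL →* SL} (hu : ∀ c : F, σ (uE c) = φ (uE c)) (hw : σ swapSL = φ swapSL) :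
    σ = φ := by
  have key : ∀ g : SL, g.1 1 0 ≠ 0 → σ g = φ g := by
    intro g hg
    rw [eq_word hg]
    simp only [map_mul, hu, hw]
  refine MonoidHom.ext fun g => ?_
  by_cases hg : g.1 1 0 = 0
  · have h1 : (g * swapSL).1 1 0 ≠ 0 := by
      have hd := det_eq g
      rw [hg, mul_zero, sub_zero] at hd
      rw [mul_apply']
      simp [swapSL, hg, right_ne_zero_of_mul_eq_one hd]
    have h := key _ h1
    rw [map_mul, map_mul, hw] at h
    exact mul_right_cancel h
  · exact key g hg

/-- An injective endomorphism fixing the upper unitriangular group is inner, by an element of it. -/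
theorem exists_eq_conj (σ : SL →* SL) (hinj : Function.Injective σ)
    (hfix : ∀ c : F, σ (uE c) = uE c) :
    ∃ a : F, ∀ g : SL, σ g = uE a * g * uE a := by
  have h2 : (2 : F) = 0 := CharTwo.two_eq_zero
  set s := σ swapSL with hsdef
  have hs2 : s * s = 1 := by rw [hsdef, ← map_mul, swap_mul_self, map_one]
  have hc : s.1 1 0 ≠ 0 := by
    intro h0
    have hd := det_eq s
    rw [h0, mul_zero, sub_zero] at hd
    have e00 := congrArg (fun g : SL => g.1 0 0) hs2
    have e11 := congrArg (fun g : SL => g.1 1 1) hs2
    simp only [mul_apply', h0, one_apply', mul_zero, add_zero, zero_mul, zero_add] at e00 e11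
    simp at e00 e11
    have h1 : ∀ x : F, x * x = 1 → x = 1 := fun x hx => by
      rcases mul_self_eq_one_iff.1 hx with h | h
      · exact h
      · rw [h, CharTwo.neg_eq]
    have hs : s = uE (s.1 0 1) := by
      apply slExt <;> simp [uu, h1 _ e00, h1 _ e11, h0]
    have : swapSL = (uE (s.1 0 1) : SL) := hinj (by rw [← hsdef, hfix]; exact hs)
    have h3 := congrArg (fun g : SL => g.1 1 0) this
    simp [uu, swapSL] at h3
  -- the diagonal entries agree
  have had : s.1 1 1 = s.1 0 0 := by
    have e := congrArg (fun g : SL => g.1 1 0) hs2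
    simp only [mul_apply', one_apply'] at e
    simp at e
    have : (s.1 0 0 + s.1 1 1) * s.1 1 0 = 0 := by linear_combination e
    rw [mul_eq_zero] at this
    have h3 := this.resolve_right hc
    linear_combination h3 - s.1 0 0 * h2
  -- the product with `u 1` has order three
  have hone : s.1 1 0 = 1 := by
    have hw3 : (uE (1 : F) * swapSL) * (uE (1 : F) * swapSL) * (uE (1 : F) * swapSL) = (1 : SL) := by
      apply slExt <;> simp [uu, swapSL, mul_apply', one_apply', CharTwo.add_self_eq_zero]
    have h3 := congrArg σ hw3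
    simp only [MonoidHom.map_one σ, MonoidHom.map_mul σ, hfix, ← hsdef] at h3
    have e := congrArg (fun g : SL => g.1 1 0) h3
    simp only [mul_apply', one_apply'] at e
    simp [uu] at e
    rw [had] at e
    have h4 : s.1 1 0 * ((s.1 1 0 + 1) * (s.1 1 0 + 1)) = 0 := by
      have hd := det_eq s
      rw [had] at hd
      linear_combination e + (-s.1 1 0) * hd + (-(s.1 1 0 * s.1 0 0 * s.1 0 0) + s.1 1 0 * s.1 1 0 - 2 * (s.1 1 0 * s.1 1 0 * s.1 0 0) - s.1 1 0 * s.1 1 0 * s.1 0 1) * h2
    have h5 := mul_self_eq_zero.1 ((mul_eq_zero.1 h4).resolve_left hc)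
    linear_combination h5 - h2
  refine ⟨s.1 0 0, fun g => ?_⟩
  set a := s.1 0 0 with hadef
  have hs : s = uE a * swapSL * uE a := by
    have hd := det_eq s
    rw [had, hone, mul_one, ← hadef] at hd
    apply slExt <;> simp [uu, swapSL, mul_apply', hone, had, ← hadef]
    linear_combination -hd + (-1) * h2
  let φ : SL →* SL :=
    { toFun := fun g => uE a * g * uE a
      map_one' := by rw [mul_one, uu_mul_self]
      map_mul' := fun g k => by
        calc uE a * (g * k) * uE a = uE a * g * (uE a * uE a) * k * uE a := by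
              rw [uu_mul_self, mul_one]; group
          _ = _ := by group }
  have : σ = φ := hom_ext (fun c => by
    show σ (uE c) = uE a * uE c * uE a
    rw [hfix, uu_comm a c, mul_assoc, uu_mul_self, mul_one]) hs
  rw [this]
  rfl

end Cfsg.Agent.Lib.GenDihedral3322
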