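import Cfsg.Agent.Lib.GenDihedral3322.Basic
import Cfsg.Agent.Lib.GenDihedral3322.SLConj
import Cfsg.Agent.Lib.SuzukiAbelian.Split
import Cfsg.Agent.Lib.SuzukiAbelian.SLTwoChar2
import Cfsg.Agent.Lib.Fusion.Thompson
import Cfsg.Agent.Lib.OddOrder.FeitThompson
import Cfsg.Agent.Lib.Induced.Burnside
import Cfsg.Agent.Lib.PGroups.Omega

/-!
# Generalized dihedral centralizers with at least two central involutions

`G` has a subgroup of index two isomorphic to `SL(2, 2^n) × B`, `B` abelian of odd order, and a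
normal subgroup of order twice odd with quotient `PSL(2, 2^n)`.
-/

set_option autoImplicit false
set_option linter.style.haveILetI false

namespace Cfsg.Agent.Lib.GenDihedral3322

open Cfsg.Agent.Lib.Involutions.Basic

/-- A cyclic group has at most one involution. -/
theorem eq_of_orderOf_two {C : Type*} [Group C] [Finite C] [IsCyclic C] {u v : C}
    (hu : orderOf u = 2) (hv : orderOf v = 2) : u = v := by
  classical
  letI := Fintype.ofFinite C
  by_contra hne
  have h1 := IsCyclic.card_pow_eq_one_le (α := C) (n := 2) two_pos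
  have h2 : ({1, u, v} : Finset C) ⊆ Finset.univ.filter fun a : C => a ^ 2 = 1 := by
    intro a ha
    simp only [Finset.mem_insert, Finset.mem_singleton] at ha
    refine Finset.mem_filter.2 ⟨Finset.mem_univ _, ?_⟩
    rcases ha with rfl | rfl | rfl
    · exact one_pow 2
    · rw [← hu, pow_orderOf_eq_one]
    · rw [← hv, pow_orderOf_eq_one]
  have h3 := (Finset.card_le_card h2).trans h1
  rw [Finset.card_insert_of_notMem (by simp [(invol_ne_one hu).symm, (invol_ne_one hv).symm]),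
    Finset.card_pair hne] at h3
  omega

variable {G : Type*} [Group G] {H A : Subgroup G}

/-- The hypothesis: `A` has exponent more than two and two involutions. -/
structure TwoInvol (H A : Subgroup G) : Prop where
  shape : Shape H A
  big : ∃ a ∈ A, a * a ≠ 1
  coset : ∀ x ∈ H, ∀ y ∈ H, x ∉ A → y ∉ A → x * y ∈ A
  two : ∃ i ∈ A, ∃ j ∈ A, orderOf i = 2 ∧ orderOf j = 2 ∧ i ≠ j
  cent : ∀ j ∈ A, orderOf j = 2 → Subgroup.centralizer ({j} : Set G) = H
  nonsolvable : ¬ Group.IsSolvable G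

namespace TwoInvol

variable (h : TwoInvol H A)
include h

theorem mem_iff {j y : G} (hj : j ∈ A) (hj2 : orderOf j = 2) : y * j = j * y ↔ y ∈ H := by
  rw [← Subgroup.mem_centralizer_singleton_iff, h.cent j hj hj2]

theorem orderOf_notMem {x : G} (hx : x ∈ H) (hxA : x ∉ A) : orderOf x = 2 :=
  invol_iff.2 ⟨h.shape.sq x hx hxA, fun e => hxA (e ▸ A.one_mem)⟩

/-- An element of `H` outside `A` is not conjugate into `A`. -/
theorem not_fused {g x : G} (hx : x ∈ H) (hxA : x ∉ A) : g * x * g⁻¹ ∉ A := by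
  intro hj
  obtain ⟨i₁, hi₁, i₂, hi₂, o₁, o₂, hne⟩ := h.two
  have hj2 : orderOf (g * x * g⁻¹) = 2 := (orderOf_conj_eq g x).trans (h.orderOf_notMem hx hxA)
  have hcx : ∀ w, w * x = x * w ↔ g * w * g⁻¹ ∈ H := by
    intro w
    rw [← h.mem_iff hj hj2]
    constructor
    · intro e
      calc g * w * g⁻¹ * (g * x * g⁻¹) = g * (w * x) * g⁻¹ := by group
        _ = g * x * g⁻¹ * (g * w * g⁻¹) := by rw [e]; group
    · intro e
      calc w * x = g⁻¹ * (g * w * g⁻¹ * (g * x * g⁻¹)) * g := by group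
        _ = x * w := by rw [e]; group
  -- an involution of `A` that `g` carries into `A`
  obtain ⟨i, hiA, hi2, hgi⟩ : ∃ i ∈ A, orderOf i = 2 ∧ g * i * g⁻¹ ∈ A := by
    have h1 := (hcx i₁).1 (h.shape.central hi₁ (invol_mul_self o₁) hx).symm
    have h2 := (hcx i₂).1 (h.shape.central hi₂ (invol_mul_self o₂) hx).symm
    by_cases a1 : g * i₁ * g⁻¹ ∈ A
    · exact ⟨i₁, hi₁, o₁, a1⟩
    by_cases a2 : g * i₂ * g⁻¹ ∈ A
    · exact ⟨i₂, hi₂, o₂, a2⟩
    refine ⟨i₁ * i₂, A.mul_mem hi₁ hi₂, invol_iff.2 ⟨?_, ?_⟩, ?_⟩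
    · calc i₁ * i₂ * (i₁ * i₂) = i₁ * (i₂ * i₁) * i₂ := by group
        _ = (i₁ * i₁) * (i₂ * i₂) := by rw [← h.shape.comm hi₁ hi₂]; group
        _ = 1 := by rw [invol_mul_self o₁, invol_mul_self o₂, one_mul]
    · intro e
      exact hne (by rw [eq_inv_of_mul_eq_one_left e, invol_inv o₂])
    · have := h.coset _ h1 _ h2 a1 a2
      rwa [show g * i₁ * g⁻¹ * (g * i₂ * g⁻¹) = g * (i₁ * i₂) * g⁻¹ by group] at this
  -- so `g` normalises `H`
  have hnorm : ∀ w, g * w * g⁻¹ ∈ H ↔ w ∈ H := by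
    intro w
    rw [← h.mem_iff hgi ((orderOf_conj_eq g i).trans hi2), ← h.mem_iff hiA hi2]
    constructor
    · intro e
      calc w * i = g⁻¹ * (g * w * g⁻¹ * (g * i * g⁻¹)) * g := by group
        _ = i * w := by rw [e]; group
    · intro e
      calc g * w * g⁻¹ * (g * i * g⁻¹) = g * (w * i) * g⁻¹ := by group
        _ = g * i * g⁻¹ * (g * w * g⁻¹) := by rw [e]; group
  obtain ⟨a, ha, ha2⟩ := h.big
  exact hxA (h.shape.mem_of_central ha ha2 hx fun w hw => (hcx w).2 ((hnorm w).2 hw))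

/-- A Sylow 2-subgroup of `G` lies in `H` and contains the involutions of `A`. -/
theorem exists_sylow [Finite G] : ∃ P : Sylow 2 G, (P : Subgroup G) ≤ H ∧
    (∀ i ∈ A, orderOf i = 2 → i ∈ (P : Subgroup G)) ∧ ∃ x ∈ (P : Subgroup G), x ∉ A := by
  classical
  haveI : Fact (Nat.Prime 2) := ⟨Nat.prime_two⟩
  obtain ⟨x, hx, hxA⟩ := h.shape.exists_notMem
  have hx2 := h.orderOf_notMem hx hxA
  -- the involutions of `A` with `x` generate a 2-group
  let V : Subgroup G :=
    { carrier := {a | a ∈ A ∧ a * a = 1}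
      one_mem' := ⟨A.one_mem, one_mul 1⟩
      mul_mem' := by
        rintro a b ⟨ha, ha2⟩ ⟨hb, hb2⟩
        refine ⟨A.mul_mem ha hb, ?_⟩
        calc a * b * (a * b) = a * (b * a) * b := by group
          _ = (a * a) * (b * b) := by rw [← h.shape.comm ha hb]; group
          _ = 1 := by rw [ha2, hb2, one_mul]
      inv_mem' := by
        rintro a ⟨ha, ha2⟩
        exact ⟨A.inv_mem ha, by rw [← mul_inv_rev, ha2, inv_one]⟩ }
  have hV : ∀ i ∈ A, orderOf i = 2 → i ∈ V := fun i hi hi2 => ⟨hi, invol_mul_self hi2⟩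
  have hpV : IsPGroup 2 V := fun v => ⟨1, Subtype.ext (by simpa [pow_two] using v.2.2)⟩
  have hpx : IsPGroup 2 (Subgroup.zpowers x) :=
    IsPGroup.of_card (n := 1) (by rw [Nat.card_zpowers, hx2, pow_one])
  have hsup : IsPGroup 2 (V ⊔ Subgroup.zpowers x : Subgroup G) := by
    refine IsPGroup.to_sup_of_normal_left' hpV hpx ?_
    rw [Subgroup.zpowers_le, Subgroup.mem_normalizer_iff]
    intro v
    constructor
    · rintro ⟨hv, hv2⟩
      have := h.shape.inv hx hxA hv
      rw [inv_eq_of_mul_eq_one_right hv2] at this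
      rw [this]; exact ⟨hv, hv2⟩
    · rintro ⟨hv, hv2⟩
      have := h.shape.inv hx hxA hv
      rw [inv_eq_of_mul_eq_one_right hv2] at this
      have e : x * v * x⁻¹ = v := by
        have h2 : x⁻¹ = x := invol_inv hx2
        have h3 : x * (x * v * x⁻¹) * x⁻¹ = v := by
          rw [h2, ← mul_assoc, ← mul_assoc, invol_mul_self hx2, one_mul, mul_assoc, invol_mul_self hx2,
            mul_one]
        rw [← this, h3]
      exact e ▸ ⟨hv, hv2⟩
  -- the largest intersection of a Sylow subgroup with `H`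
  obtain ⟨P, hP⟩ := hsup.exists_le_sylow
  have hVP : ∀ i ∈ A, orderOf i = 2 → i ∈ (P : Subgroup G) := fun i hi hi2 =>
    hP (Subgroup.mem_sup_left (hV i hi hi2))
  have hxP : x ∈ (P : Subgroup G) := hP (Subgroup.mem_sup_right (Subgroup.mem_zpowers x))
  refine ⟨P, ?_, hVP, x, hxP, hxA⟩
  -- a normalizer of `P ⊓ H` in `P` fixes an involution of `A`
  obtain ⟨i, hi, -, -, hi2, -, -⟩ := h.two
  set S := (P : Subgroup G) ⊓ H with hS
  by_contra hPH
  have hlt : S.subgroupOf P < Subgroup.normalizer ((S.subgroupOf P : Subgroup P) : Set P) := by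
    haveI := P.isPGroup'.isNilpotent
    refine Group.normalizerCondition_of_isNilpotent _ (lt_top_iff_ne_top.2 fun e => hPH ?_)
    rw [Subgroup.subgroupOf_eq_top] at e
    exact e.trans inf_le_right
  obtain ⟨y, hy, hyS⟩ := SetLike.exists_of_lt hlt
  let N : Subgroup G := (P : Subgroup G) ⊓ Subgroup.normalizer (S : Set G)
  have hNp : IsPGroup 2 N := P.isPGroup'.to_le inf_le_left
  have hVN : V ≤ N := by
    intro v hv
    refine ⟨?_, Subgroup.le_normalizer ⟨?_, h.shape.lt.le hv.1⟩⟩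
    all_goals exact hP (Subgroup.mem_sup_left hv)
  have hVn : (V.subgroupOf N).Normal := by
    refine ⟨fun v hv n => ?_⟩
    obtain ⟨hv1, hv2⟩ := hv
    have hv1' : ((v : N) : G) ∈ A := hv1
    have hv2' : ((v : N) : G) * v = 1 := hv2
    by_cases hv0 : ((v : N) : G) = 1
    · rw [Subgroup.mem_subgroupOf]
      push_cast
      rw [hv0, mul_one, mul_inv_cancel]
      exact V.one_mem
    have hvS : ((v : N) : G) ∈ S := ⟨hP (Subgroup.mem_sup_left ⟨hv1', hv2'⟩), h.shape.lt.le hv1'⟩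
    have hnv : (n : G) * v * (n : G)⁻¹ ∈ S := (Subgroup.mem_normalizer_iff.1 n.2.2 _).1 hvS
    have hinv : (n : G) * v * (n : G)⁻¹ * ((n : G) * v * (n : G)⁻¹) = 1 := by
      rw [conj_mul, hv2', mul_one, mul_inv_cancel]
    refine ⟨?_, hinv⟩
    by_contra hA
    have := h.not_fused (g := (n : G)⁻¹) hnv.2 hA
    exact this (by simpa [mul_assoc] using hv1')
  have hVne : V.subgroupOf N ≠ ⊥ := by
    intro e
    have : (⟨i, hVN (hV i hi hi2)⟩ : N) ∈ V.subgroupOf N := hV i hi hi2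
    rw [e, Subgroup.mem_bot] at this
    exact invol_ne_one hi2 (congrArg Subtype.val this)
  haveI := hVn
  obtain ⟨c, hc, hc1⟩ : ∃ c ∈ V.subgroupOf N ⊓ Subgroup.center N, c ≠ 1 := by
    have h1 := PGroups.normal_inf_center_ne_bot hNp (V.subgroupOf N) hVne
    obtain ⟨c, hc⟩ := Subgroup.ne_bot_iff_exists_ne_one.1 h1
    exact ⟨c, c.2, fun e => hc (Subtype.ext e)⟩
  have hc2 : orderOf ((c : N) : G) = 2 :=
    invol_iff.2 ⟨hc.1.2, fun e => hc1 (Subtype.ext e)⟩
  have hyN : (y : G) ∈ N := by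
    refine ⟨y.2, Subgroup.mem_normalizer_iff.2 fun s => ?_⟩
    constructor
    · intro hs
      exact (Subgroup.mem_normalizer_iff.1 hy ⟨s, hs.1⟩).1 hs
    · intro hs
      have hsP : s ∈ (P : Subgroup G) := by
        have := P.1.mul_mem (P.1.mul_mem (P.1.inv_mem y.2) hs.1) y.2
        simpa [mul_assoc] using this
      exact (Subgroup.mem_normalizer_iff.1 hy ⟨s, hsP⟩).2 hs
  have hcomm : (y : G) * c = c * y :=
    congrArg Subtype.val (Subgroup.mem_center_iff.1 hc.2 ⟨y, hyN⟩)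
  exact hyS ⟨y.2, (h.mem_iff hc.1.1 hc2).1 hcomm⟩

/-- A subgroup of index two meeting `H` in `A`. -/
theorem exists_index_two [Finite G] :
    ∃ (G₀ : Subgroup G) (P : Sylow 2 G), G₀.index = 2 ∧ (P : Subgroup G) ≤ H ∧
      (∀ i ∈ A, orderOf i = 2 → i ∈ (P : Subgroup G)) ∧ (∀ y ∈ H, y ∈ G₀ ↔ y ∈ A) ∧
      ∃ x ∈ H, x ∉ A := by
  classical
  obtain ⟨P, hPH, hVP, x, hxP, hxA⟩ := h.exists_sylow
  set M := (P : Subgroup G) ⊓ A with hM
  have hMidx : M.index % 4 = 2 := by
    have h1 : M.relIndex P = 2 := by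
      rw [Subgroup.relIndex, Subgroup.index_eq_two_iff']
      refine ⟨⟨x, hxP⟩, fun b => ?_⟩
      rw [Subgroup.mem_subgroupOf, Subgroup.mem_subgroupOf]
      have hbH : (b : G) ∈ H := hPH b.2
      by_cases hb : (b : G) ∈ A
      · refine .inr ⟨⟨b.2, hb⟩, fun e => hxA ?_⟩
        have := A.mul_mem e.2 (A.inv_mem hb)
        simpa using this
      · refine .inl ⟨⟨P.1.mul_mem hxP b.2, h.coset _ (hPH hxP) _ hbH hxA hb⟩, fun e => hb e.2⟩
    have h2 : M.relIndex P * (P : Subgroup G).index = M.index := Subgroup.relIndex_mul_index inf_le_left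
    haveI : Fact (Nat.Prime 2) := ⟨Nat.prime_two⟩
    have h3 : ¬ 2 ∣ (P : Subgroup G).index := P.not_dvd_index
    rw [h1] at h2
    omega
  haveI : Finite (G ⧸ M) := Quotient.finite _
  letI := Fintype.ofFinite (G ⧸ M)
  let χ : G →* ℤˣ := Equiv.Perm.sign.comp (MulAction.toPermHom G (G ⧸ M))
  have hχ : ∀ y ∈ H, y ∉ A → χ y = -1 := by
    intro y hy hyA
    set σ := MulAction.toPermHom G (G ⧸ M) y with hσ
    have hy2 : y * y = 1 := h.shape.sq y hy hyA
    haveI : Fact (Nat.Prime 2) := ⟨Nat.prime_two⟩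
    have hpow : σ ^ 2 = 1 := by rw [hσ, ← map_pow, pow_two, hy2, map_one]
    have hfix : Fintype.card (Function.fixedPoints σ) = 0 := by
      rw [Fintype.card_eq_zero_iff]
      refine ⟨fun q => ?_⟩
      obtain ⟨k, hk⟩ := QuotientGroup.mk_surjective q.1
      have he : y • (QuotientGroup.mk k : G ⧸ M) = QuotientGroup.mk k := by rw [hk]; exact q.2
      rw [MulAction.Quotient.smul_mk, smul_eq_mul, QuotientGroup.eq] at he
      have := A.inv_mem he.2
      exact h.not_fused (g := k⁻¹) hy hyA (by simpa [mul_assoc] using this)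
    show Equiv.Perm.sign σ = -1
    rw [Equiv.Perm.sign_of_cycleType_eq_replicate (n := 2) (by norm_num)
      (Equiv.Perm.cycleType_of_pow_prime_eq_one hpow), hfix, if_neg (by decide), Nat.sub_zero,
      ← Nat.card_eq_fintype_card]
    rw [← Subgroup.index_eq_card]
    exact Odd.neg_one_pow (Nat.odd_iff.2 (by omega))
  refine ⟨χ.ker, P, ?_, hPH, hVP, fun y hy => ⟨fun hk => ?_, fun hA => ?_⟩, x, hPH hxP, hxA⟩
  · rw [Subgroup.index_ker, MonoidHom.range_eq_top.2 ?_, Subgroup.card_top, Nat.card_eq_fintype_card,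
      Fintype.card_units_int]
    intro u
    rcases Int.units_eq_one_or u with rfl | rfl
    · exact ⟨1, map_one χ⟩
    · exact ⟨x, hχ x (hPH hxP) hxA⟩
  · by_contra hyA
    rw [MonoidHom.mem_ker, hχ y hy hyA] at hk
    exact absurd hk (by decide)
  · have hxy : x * y ∉ A := fun e => hxA (by simpa using A.mul_mem e (A.inv_mem hA))
    have h1 := hχ _ (H.mul_mem (hPH hxP) hy) hxy
    rw [map_mul, hχ x (hPH hxP) hxA] at h1
    rw [MonoidHom.mem_ker]
    exact mul_left_cancel (h1.trans (mul_one _).symm)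

/-- **The case of two central involutions.** -/
theorem exists_quotient [Finite G] : ∃ (N : Subgroup G) (_ : N.Normal),
    (∃ m : ℕ, Odd m ∧ Nat.card N = 2 * m) ∧
      ∃ (F : Type) (_ : Field F) (_ : Fintype F), 3 < Fintype.card F ∧
        Nonempty (G ⧸ N ≃* Matrix.ProjectiveSpecialLinearGroup (Fin 2) F) := by
  classical
  haveI : Fact (Nat.Prime 2) := ⟨Nat.prime_two⟩
  obtain ⟨G₀, P, hidx, hPH, hVP, hG₀, x, hx, hxA⟩ := h.exists_index_two
  have hx0 : x ∉ G₀ := fun e => hxA ((hG₀ x hx).1 e)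
  have hn : G₀.Normal := Subgroup.normal_of_index_eq_two hidx
  have hns₀ : ¬ Group.IsSolvable G₀ := by
    intro hs
    haveI := hs
    haveI := hn
    haveI : Fact (Nat.Prime 2) := ⟨Nat.prime_two⟩
    haveI : IsMulCommutative (G ⧸ G₀) := by
      haveI : IsCyclic (G ⧸ G₀) :=
        isCyclic_of_prime_card (p := 2) (by rw [← Subgroup.index_eq_card, hidx])
      exact ⟨⟨fun a b => (IsCyclic.commGroup (α := G ⧸ G₀)).mul_comm a b⟩⟩
    haveI : Group.IsSolvable (G ⧸ G₀) :=
      Group.isSolvable_of_comm fun a b => IsMulCommutative.is_comm.comm a b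
    exact h.nonsolvable (Group.isSolvable_of_ker_le_range G₀.subtype (QuotientGroup.mk' G₀) (by simp))
  -- every 2-subgroup of `G₀` is conjugate into `A ⊓ P`
  have hinto : ∀ Q : Subgroup G, IsPGroup 2 Q → ∃ g : G, ∀ q ∈ Q, g * q * g⁻¹ ∈ H ∧ g * q * g⁻¹ ∈ P := by
    intro Q hQ
    obtain ⟨R, hR⟩ := hQ.exists_le_sylow
    obtain ⟨g, hg⟩ := MulAction.exists_smul_eq G R P
    refine ⟨g, fun q hq => ?_⟩
    have : g * q * g⁻¹ ∈ (P : Subgroup G) := by
      rw [← hg, Sylow.coe_subgroup_smul]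
      exact Subgroup.smul_mem_pointwise_smul _ (MulAut.conj g) _ (hR hq)
    exact ⟨hPH this, this⟩
  -- centralizers of involutions in `G₀` are commutative
  have hC : ∀ j : G₀, orderOf j = 2 → IsMulCommutative (Subgroup.centralizer ({j} : Set G₀)) := by
    intro j hj
    have hj' : orderOf (j : G) = 2 := by rw [Subgroup.orderOf_coe, hj]
    obtain ⟨g, hg⟩ := hinto (Subgroup.zpowers (j : G))
      (IsPGroup.of_card (n := 1) (by rw [Nat.card_zpowers, hj', pow_one]))
    obtain ⟨hgH, -⟩ := hg _ (Subgroup.mem_zpowers _)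
    have hgA : g * j * g⁻¹ ∈ A := (hG₀ _ hgH).1 (hn.conj_mem _ j.2 g)
    have hgo : orderOf (g * j * g⁻¹) = 2 := (orderOf_conj_eq g _).trans hj'
    have key : ∀ c : Subgroup.centralizer ({j} : Set G₀), g * (c : G₀) * g⁻¹ ∈ A := by
      intro c
      have hc : ((c : G₀) : G) * j = j * (c : G₀) :=
        congrArg Subtype.val (Subgroup.mem_centralizer_singleton_iff.1 c.2)
      refine (hG₀ _ ((h.mem_iff hgA hgo).1 ?_)).1 (hn.conj_mem _ (c : G₀).2 g)
      calc g * (c : G₀) * g⁻¹ * (g * j * g⁻¹) = g * (((c : G₀) : G) * j) * g⁻¹ := by group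
        _ = g * j * g⁻¹ * (g * (c : G₀) * g⁻¹) := by rw [hc]; group
    refine ⟨⟨fun c d => Subtype.ext (Subtype.ext ?_)⟩⟩
    have e := h.shape.comm (key c) (key d)
    show ((c : G₀) : G) * (d : G₀) = (d : G₀) * (c : G₀)
    calc ((c : G₀) : G) * (d : G₀) = g⁻¹ * (g * (c : G₀) * g⁻¹ * (g * (d : G₀) * g⁻¹)) * g := by group
      _ = _ := by rw [e]; group
  -- the Sylow 2-subgroups of `G₀` are neither cyclic nor normal
  obtain ⟨i₁, hi₁, i₂, hi₂, o₁, o₂, hne⟩ := h.two
  have hi₁0 : i₁ ∈ G₀ := (hG₀ _ (h.shape.lt.le hi₁)).2 hi₁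
  have hi₂0 : i₂ ∈ G₀ := (hG₀ _ (h.shape.lt.le hi₂)).2 hi₂
  obtain ⟨T, hT⟩ : ∃ T : Sylow 2 G₀, ((P : Subgroup G).subgroupOf G₀) ≤ T :=
    (IsPGroup.exists_le_sylow (P.isPGroup'.comap_of_injective G₀.subtype G₀.subtype_injective))
  have hAI : SuzukiAbelian.AIHyp T := by
    refine ⟨fun hc => hne ?_, fun hnT => hns₀ ?_, hC⟩
    · obtain ⟨z, hz⟩ := hc.exists_generator
      have hs : ∀ u : (T : Subgroup G₀), u * u = 1 → u ≠ 1 → orderOf u = 2 := fun u e1 e2 =>
        invol_iff.2 ⟨e1, e2⟩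
      set u₁ : (T : Subgroup G₀) := ⟨⟨i₁, hi₁0⟩, hT (hVP i₁ hi₁ o₁)⟩ with hu₁
      set u₂ : (T : Subgroup G₀) := ⟨⟨i₂, hi₂0⟩, hT (hVP i₂ hi₂ o₂)⟩ with hu₂
      have p₁ : orderOf u₁ = 2 := by rw [hu₁, Subgroup.orderOf_mk, Subgroup.orderOf_mk, o₁]
      have p₂ : orderOf u₂ = 2 := by rw [hu₂, Subgroup.orderOf_mk, Subgroup.orderOf_mk, o₂]
      haveI := hc
      have := GenDihedral3322.eq_of_orderOf_two p₁ p₂
      exact congrArg (fun u : (T : Subgroup G₀) => ((u : G₀) : G)) this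
    · haveI := hnT
      haveI := T.isPGroup'.isNilpotent
      have hodd : Odd (Nat.card (G₀ ⧸ (T : Subgroup G₀))) := by
        rw [← Subgroup.index_eq_card, ← Nat.not_even_iff_odd, even_iff_two_dvd]
        exact T.not_dvd_index
      haveI := OddOrder.FeitThompson.isSolvable_of_odd_card hodd
      exact Group.isSolvable_of_ker_le_range (T : Subgroup G₀).subtype
        (QuotientGroup.mk' (T : Subgroup G₀)) (by simp)
  obtain ⟨F, i1, i2, B, iB, iBf, hchar, hBodd, ⟨e⟩⟩ := hAI.nonempty_mulEquiv_sl_prod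
  haveI := hchar
  have hF3 : 3 < Fintype.card F := by
    by_contra hle
    apply hns₀
    obtain ⟨n, -, hq⟩ := FiniteField.card F 2
    have hn1 : (n : ℕ) = 1 := by
      by_contra hn1
      have := Nat.pow_le_pow_right two_pos (show 2 ≤ (n : ℕ) by have := n.pos; omega)
      omega
    rw [hn1, pow_one] at hq
    have hSL : Nat.card (Matrix.SpecialLinearGroup (Fin 2) F) = 6 := by
      have h6 := Linear.sub_one_mul_card_SL (F := F) 2 (by norm_num)
      rw [hq, Fin.prod_univ_two] at h6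
      norm_num at h6
      rw [Nat.card_eq_fintype_card]; exact h6
    haveI : Group.IsSolvable (Matrix.SpecialLinearGroup (Fin 2) F) :=
      Induced.Burnside.isSolvable_of_card_eq 2 3 1 1 Nat.prime_two Nat.prime_three (by rw [hSL]; norm_num)
    haveI : Group.IsSolvable B := Group.isSolvable_of_comm fun a b => mul_comm a b
    exact Group.isSolvable_of_isSolvable_injective (f := e.toMonoidHom) e.injective
  obtain ⟨es⟩ := SuzukiAbelian.nonempty_sl_equiv_psl (F := F)
  have hZ : ∀ z : Matrix.SpecialLinearGroup (Fin 2) F, (∀ l, l * z = z * l) → z = 1 := by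
    intro z hz
    by_contra hne'
    obtain ⟨s, -, hsA⟩ := Matrix.SpecialLinearGroup.mem_center_iff.1 (Subgroup.mem_center_iff.2 hz)
    rcases SuzukiAbelian.nonScalar_of_ne_one hne' with h' | h' | h' <;> apply h' <;> rw [← hsA] <;> simp
  let p : G₀ →* Matrix.SpecialLinearGroup (Fin 2) F := (MonoidHom.fst _ _).comp e.toMonoidHom
  let ι : Matrix.SpecialLinearGroup (Fin 2) F →* G₀ := e.symm.toMonoidHom.comp (MonoidHom.inl _ _)
  have hpι : ∀ l, p (ι l) = l := fun l => by simp [p, ι]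
  have hpker : ∀ k k' : G₀, p k = 1 → k' * k = k * k' := by
    intro k k' hk
    apply e.injective
    rw [map_mul, map_mul]
    have hk' : (e k).1 = 1 := hk
    exact Prod.ext (by simp [hk']) (mul_comm _ _)
  -- an involution outside `G₀` centralising the upper unitriangular group
  let uu := fun c : F => PSLTwo.TripleFactor.uu (Multiplicative.ofAdd c)
  set U : Subgroup G := ((PSLTwo.TripleFactor.uu (F := F)).range.map ι).map G₀.subtype with hU
  have hUsq : ∀ q ∈ U, q * q = 1 := by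
    rintro _ ⟨_, ⟨_, ⟨c, rfl⟩, rfl⟩, rfl⟩
    have := congrArg (fun l => ((ι l : G₀) : G)) (uu_mul_self (F := F) (Multiplicative.toAdd c))
    simpa using this
  obtain ⟨g, hg⟩ := hinto U fun q => ⟨1, Subtype.ext (by simpa [pow_two] using hUsq q q.2)⟩
  obtain ⟨x', hx'⟩ : ∃ v, v = g⁻¹ * x * g := ⟨_, rfl⟩
  have hx'0 : x' ∉ G₀ := fun e' => hx0 (by
    have := hn.conj_mem _ e' g
    simpa [hx', mul_assoc] using this)
  have hx'2 : x' * x' = 1 := by
    have := h.shape.sq x hx hxA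
    rw [hx', show g⁻¹ * x * g * (g⁻¹ * x * g) = g⁻¹ * (x * x) * g by group, this]; group
  have hx'c : ∀ q ∈ U, x' * q = q * x' := by
    intro q hq
    obtain ⟨hqH, -⟩ := hg q hq
    have hq0 : q ∈ G₀ := by
      obtain ⟨k, -, rfl⟩ := hq
      exact k.2
    have hqA := (hG₀ _ hqH).1 (hn.conj_mem _ hq0 g)
    have hq2 : g * q * g⁻¹ * (g * q * g⁻¹) = 1 := by rw [conj_mul, hUsq q hq, mul_one, mul_inv_cancel]
    have := h.shape.central hqA hq2 hx
    calc x' * q = g⁻¹ * (x * (g * q * g⁻¹)) * g := by rw [hx']; group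
      _ = q * x' := by rw [this, hx']; group
  let cx : G₀ →* G₀ := (MulAut.conjNormal x').toMonoidHom
  have hcx : ∀ k : G₀, (cx k : G) = x' * k * x'⁻¹ := fun k => MulAut.conjNormal_apply _ _
  let σ : Matrix.SpecialLinearGroup (Fin 2) F →* Matrix.SpecialLinearGroup (Fin 2) F :=
    (p.comp cx).comp ι
  have hσinj : Function.Injective σ := by
    refine (injective_iff_map_eq_one σ).2 fun l hl => hZ l fun l' => ?_
    have hc : ∀ k', k' * ι l = ι l * k' := by
      intro k'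
      apply (MulAut.conjNormal x' : MulAut G₀).injective
      rw [map_mul, map_mul]
      exact hpker _ _ hl
    have := congrArg p (hc (ι l'))
    rwa [map_mul, map_mul, hpι, hpι] at this
  have hσfix : ∀ c : F, σ (uu c) = uu c := by
    intro c
    show p (cx (ι (uu c))) = _
    have hmem : ((ι (uu c) : G₀) : G) ∈ U :=
      ⟨_, ⟨_, ⟨Multiplicative.ofAdd c, rfl⟩, rfl⟩, rfl⟩
    rw [show cx (ι (uu c)) = ι (uu c) from Subtype.ext (by
      rw [hcx, hx'c _ hmem, mul_inv_cancel_right]), hpι]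
  obtain ⟨a, ha⟩ := exists_eq_conj σ hσinj hσfix
  obtain ⟨y, hy⟩ : ∃ v, v = x' * ((ι (uu a) : G₀) : G) := ⟨_, rfl⟩
  have hy0 : y ∉ G₀ := fun e' => hx'0 (by
    have := G₀.mul_mem e' (G₀.inv_mem (ι (uu a)).2)
    simpa [hy] using this)
  have hy2 : y * y = 1 := by
    have hmem : ((ι (uu a) : G₀) : G) ∈ U :=
      ⟨_, ⟨_, ⟨Multiplicative.ofAdd a, rfl⟩, rfl⟩, rfl⟩
    calc y * y = x' * ((ι (uu a) : G₀) * x') * (ι (uu a) : G₀) := by rw [hy]; group
      _ = (x' * x') * ((ι (uu a) : G₀) * (ι (uu a) : G₀)) := by rw [← hx'c _ hmem]; group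
      _ = 1 := by rw [hx'2, hUsq _ hmem, one_mul]
  -- conjugation by `y` is trivial modulo the centre
  have hyp : ∀ k : G₀, p (MulAut.conjNormal y k) = p k := by
    intro k
    have hk : k = ι (p k) * (ι (p k))⁻¹ * k := by group
    obtain ⟨b, hb⟩ : ∃ v, v = (ι (p k))⁻¹ * k := ⟨_, rfl⟩
    have hb1 : p b = 1 := by rw [hb, map_mul, map_inv, hpι, inv_mul_cancel]
    have hb2 : p (MulAut.conjNormal y b) = 1 := by
      refine hZ _ fun l => ?_
      have hc : MulAut.conjNormal y b * ι l = ι l * MulAut.conjNormal y b := by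
        obtain ⟨k', hk'⟩ := (MulAut.conjNormal y : MulAut G₀).surjective (ι l)
        rw [← hk', ← map_mul, ← map_mul, hpker _ _ hb1]
      have := congrArg p hc
      rw [map_mul, map_mul, hpι] at this
      exact this.symm
    rw [show k = ι (p k) * b by rw [hb]; group, map_mul, map_mul, hb2, mul_one, map_mul, hb1, mul_one, hpι]
    have hcy : MulAut.conjNormal y (ι (p k)) = cx (ι (uu a * p k * uu a)) := by
      apply Subtype.ext
      rw [hcx, MulAut.conjNormal_apply, hy, map_mul, map_mul]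
      have hinv : ((ι (uu a) : G₀) : G)⁻¹ = ι (uu a) := inv_eq_of_mul_eq_one_right (hUsq _
        ⟨_, ⟨_, ⟨Multiplicative.ofAdd a, rfl⟩, rfl⟩, rfl⟩)
      simp only [Subgroup.coe_mul, mul_inv_rev, hinv, mul_assoc]
    rw [hcy]
    show σ (uu a * p k * uu a) = p k
    rw [ha]
    show uu a * (uu a * p k * uu a) * uu a = p k
    simp only [← mul_assoc, uu_mul_self, one_mul, uu]
    rw [mul_assoc, uu_mul_self, mul_one]
  have hout : ∀ u v : G, u ∉ G₀ → v ∉ G₀ → u * v ∈ G₀ := fun u v hu hv =>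
    (Subgroup.mul_mem_iff_of_index_two hidx).2 (iff_of_false hu hv)
  have hpc : ∀ u v : G₀, (u : G) = v → p u = p v := fun u v huv => congrArg p (Subtype.ext huv)
  let Φf : G → Matrix.SpecialLinearGroup (Fin 2) F := fun u =>
    if hu : u ∈ G₀ then p ⟨u, hu⟩ else p ⟨u * y, hout u y hu hy0⟩
  have hΦ0 : ∀ k : G₀, Φf k = p k := fun k => by simp [Φf, k.2]
  have hΦ1 : ∀ k : G₀, Φf (k * y) = p k := by
    intro k
    have hk : (k : G) * y ∉ G₀ := fun e' => hy0 (by
      have := G₀.mul_mem (G₀.inv_mem k.2) e'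
      simpa using this)
    simp only [Φf, dif_neg hk]
    exact hpc _ _ (show (k : G) * y * y = k by rw [mul_assoc, hy2, mul_one])
  have hsplit : ∀ u : G, ∃ k : G₀, u = k ∨ u = k * y := by
    intro u
    by_cases hu : u ∈ G₀
    · exact ⟨⟨u, hu⟩, .inl rfl⟩
    · exact ⟨⟨u * y, hout u y hu hy0⟩, .inr (by rw [mul_assoc, hy2, mul_one])⟩
  have hswap : ∀ k : G₀, y * (k : G) = (MulAut.conjNormal y k : G₀) * y := fun k => by
    rw [MulAut.conjNormal_apply, inv_mul_cancel_right]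
  let Φ : G →* Matrix.SpecialLinearGroup (Fin 2) F := MonoidHom.mk' Φf fun u v => by
    obtain ⟨k, rfl | rfl⟩ := hsplit u <;> obtain ⟨l, rfl | rfl⟩ := hsplit v
    · rw [← Subgroup.coe_mul, hΦ0, hΦ0, hΦ0, map_mul]
    · rw [← mul_assoc, ← Subgroup.coe_mul, hΦ1, hΦ1, hΦ0, map_mul]
    · rw [mul_assoc, hswap, ← mul_assoc, ← Subgroup.coe_mul, hΦ1, hΦ1, hΦ0, map_mul, hyp]
    · rw [show (k : G) * y * (l * y) = k * (y * l) * y by group, hswap, ← mul_assoc, mul_assoc (_ * _) y y,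
        hy2, mul_one, ← Subgroup.coe_mul, hΦ0, hΦ1, hΦ1, map_mul, hyp]
  have hΦs : Function.Surjective Φ := fun l => ⟨ι l, (hΦ0 _).trans (hpι l)⟩
  refine ⟨Φ.ker, inferInstance, ⟨Nat.card B, hBodd, ?_⟩, F, i1, i2, hF3,
    ⟨(QuotientGroup.quotientKerEquivOfSurjective Φ hΦs).trans es⟩⟩
  have h1 := Φ.ker.card_mul_index
  rw [Subgroup.index_ker, MonoidHom.range_eq_top.2 hΦs, Subgroup.card_top] at h1
  have h2 := G₀.card_mul_index
  rw [hidx, Nat.card_congr e.toEquiv, Nat.card_prod] at h2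
  refine Nat.eq_of_mul_eq_mul_right (Nat.card_pos (α := Matrix.SpecialLinearGroup (Fin 2) F)) ?_
  rw [h1, ← h2]
  ring

end TwoInvol

end Cfsg.Agent.Lib.GenDihedral3322
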