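import Cfsg.Agent.Lib.GenDihedral3322.Elementary
import Cfsg.Agent.Lib.GenDihedral3322.TwoInvol
import Cfsg.Agent.Lib.GenDihedral3322.OneInvol

/-!
# Non-solvable groups with a D-group as centralizer of its central involutions (row 3322)

`main` is conditional only on the Gorenstein–Walter theorem (row 483).
-/

set_option autoImplicit false
set_option linter.style.haveILetI false

universe u

namespace Cfsg.Agent.Lib.GenDihedral3322

open Cfsg.Agent.Lib.Involutions.Basic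

/-- **Row 3322**, given the Gorenstein–Walter theorem. -/
theorem main (hGW : GWConsumers12.GWPerfect.{u}) {G : Type u} [Group G] [Finite G] (H A : Subgroup G)
    (hAH : A < H) (hD : ∀ x ∈ H, x ∉ A → x ^ 2 = 1) (h4 : 4 ∣ Nat.card ↥H)
    (hC : ∀ j ∈ H, orderOf j = 2 → (∀ h ∈ H, h * j = j * h) → Subgroup.centralizer ({j} : Set G) = H)
    (hns : ¬ Group.IsSolvable G) :
    ∃ (N : Subgroup G) (_ : N.Normal), (Odd (Nat.card ↥N) ∨ ∃ m : ℕ, Odd m ∧ Nat.card ↥N = 2 * m) ∧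
      ∃ (F : Type) (_ : Field F) (_ : Fintype F), 3 < Fintype.card F ∧
        (Nonempty (G ⧸ N ≃* Matrix.ProjectiveSpecialLinearGroup (Fin 2) F) ∨
          Nonempty (G ⧸ N ≃* Matrix.ProjGenLinGroup (Fin 2) F)) := by
  classical
  have hs : Shape H A := ⟨hAH, fun x hx hxA => by rw [← pow_two]; exact hD x hx hxA⟩
  rcases hs.cases with hexp | ⟨hbig, hcoset⟩
  · have hE : Elem H := ⟨hexp, h4, fun j hj hj2 => hC j hj hj2 fun y hy => by
      have e := hexp _ (H.mul_mem hy hj)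
      calc y * j = (y * j)⁻¹ := eq_inv_of_mul_eq_one_left e
        _ = j * y := by
          rw [mul_inv_rev, inv_eq_of_mul_eq_one_right (hexp y hy),
            inv_eq_of_mul_eq_one_right (hexp j hj)], hns⟩
    obtain ⟨F, i1, i2, hF, ⟨e⟩⟩ := hE.exists_equiv_psl
    exact ⟨⊥, inferInstance, .inl (by simp), F, i1, i2, hF, .inl ⟨QuotientGroup.quotientBot.trans e⟩⟩
  obtain ⟨a, ha, ha2⟩ := hbig
  have hCA : ∀ j ∈ A, orderOf j = 2 → Subgroup.centralizer ({j} : Set G) = H := fun j hj hj2 =>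
    hC j (hAH.le hj) hj2 fun y hy => hs.central hj (invol_mul_self hj2) hy
  -- `A` contains an involution
  obtain ⟨t, ht, ht2⟩ : ∃ t ∈ A, orderOf t = 2 := by
    haveI : Fact (Nat.Prime 2) := ⟨Nat.prime_two⟩
    obtain ⟨x, hx, hxA⟩ := hs.exists_notMem
    have hidx : (A.subgroupOf H).index = 2 := by
      rw [Subgroup.index_eq_two_iff']
      refine ⟨⟨x, hx⟩, fun b => ?_⟩
      rw [Subgroup.mem_subgroupOf, Subgroup.mem_subgroupOf]
      show Xor (x * (b : G) ∈ A) ((b : G) ∈ A)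
      by_cases hb : (b : G) ∈ A
      · exact .inr ⟨hb, fun e => hxA (by simpa using A.mul_mem e (A.inv_mem hb))⟩
      · exact .inl ⟨hcoset _ hx _ b.2 hxA hb, hb⟩
    have h1 := (A.subgroupOf H).card_mul_index
    rw [hidx, Nat.card_congr (Subgroup.subgroupOfEquivOfLe hAH.le).toEquiv] at h1
    obtain ⟨u, hu⟩ := exists_prime_orderOf_dvd_card' (G := A) 2 (by
      obtain ⟨c, hc⟩ := h4
      exact ⟨c, by omega⟩)
    exact ⟨u, u.2, by rw [Subgroup.orderOf_coe, hu]⟩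
  by_cases htwo : ∀ b ∈ A, orderOf b = 2 → b = t
  · obtain ⟨N, hN, hodd, r⟩ :=
      OneInvol.exists_quotient (⟨hs, hcoset, ht, ht2, htwo, hCA t ht ht2, hns⟩ : OneInvol H A t) hGW
    exact ⟨N, hN, .inl hodd, r⟩
  · push Not at htwo
    obtain ⟨b, hb, hb2, hbt⟩ := htwo
    obtain ⟨N, hN, hcard, F, i1, i2, hF, hiso⟩ :=
      (⟨hs, ⟨a, ha, ha2⟩, hcoset, ⟨b, hb, t, ht, hb2, ht2, hbt⟩, hCA, hns⟩ : TwoInvol H A).exists_quotient
    exact ⟨N, hN, .inr hcard, F, i1, i2, hF, .inl hiso⟩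

end Cfsg.Agent.Lib.GenDihedral3322
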