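import Cfsg.Agent.Lib.GorensteinWalter.Sylow
import Cfsg.Agent.Lib.Involutions.Basic

/-!
# Involutions outside a subgroup of index two, dihedral Sylow 2-subgroups

They are all conjugate if the subgroup contains a four group.
-/

set_option autoImplicit false

universe u

namespace Cfsg.Agent.Lib.GenDihedral3322

open Cfsg.Agent.Lib.Involutions.Basic Cfsg.Agent.Lib.GorensteinWalter
open Cfsg.Agent.Lib.Fusion.Dihedral DihedralGroup

variable {Y : Type u} [Group Y] [Finite Y]

/-- A pair of distinct commuting involutions. -/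
def HasPair (L : Subgroup Y) : Prop :=
  ∃ a ∈ L, ∃ b ∈ L, orderOf a = 2 ∧ orderOf b = 2 ∧ a ≠ b ∧ a * b = b * a

/-- The Sylow subgroups of a group with a four group are dihedral. -/
theorem hasDihedralSylow_of_pair (hS : SylowCD Y) (hp : HasPair (⊤ : Subgroup Y)) :
    HasDihedralSylow Y := by
  classical
  obtain ⟨a, -, b, -, ha, hb, hne, hab⟩ := hp
  intro S
  rcases hS S with hc | hd
  swap
  · exact hd
  exfalso
  haveI : Fact (Nat.Prime 2) := ⟨Nat.prime_two⟩
  set E : Subgroup Y := Subgroup.closure ({a, b} : Set Y) with hE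
  have hEsq : ∀ x ∈ E, x * x = 1 := by
    intro x hx
    have hcases : x = 1 ∨ x = a ∨ x = b ∨ x = a * b := by
      induction hx using Subgroup.closure_induction with
      | mem y hy => rcases hy with rfl | rfl <;> simp
      | one => exact .inl rfl
      | mul y z _ _ e1 e2 =>
        have hbb := invol_mul_self hb
        have haa := invol_mul_self ha
        have h1 : a * (a * b) = b := by rw [← mul_assoc, haa, one_mul]
        have h2 : b * a = a * b := hab.symm
        have h3 : a * b * a = b := by rw [mul_assoc, h2, ← mul_assoc, haa, one_mul]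
        have h4 : a * b * b = a := by rw [mul_assoc, hbb, mul_one]
        have h5 : b * (a * b) = a := by rw [← mul_assoc, h2, h4]
        have h6 : a * b * (a * b) = 1 := by rw [← mul_assoc, h3, hbb]
        rcases e1 with rfl | rfl | rfl | rfl <;> rcases e2 with rfl | rfl | rfl | rfl <;>
          simp [haa, hbb, h1, h2, h3, h4, h5, h6]
      | inv y _ e1 =>
        rcases e1 with rfl | rfl | rfl | rfl
        · simp
        · simp [invol_inv ha]
        · simp [invol_inv hb]
        · simp [invol_inv ha, invol_inv hb, hab]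
    rcases hcases with rfl | rfl | rfl | rfl
    · rw [one_mul]
    · exact invol_mul_self ha
    · exact invol_mul_self hb
    · calc a * b * (a * b) = a * (b * a) * b := by group
        _ = (a * a) * (b * b) := by rw [← hab]; group
        _ = 1 := by rw [invol_mul_self ha, invol_mul_self hb, one_mul]
  obtain ⟨Q, hQ⟩ := (show IsPGroup 2 E from fun x =>
    ⟨1, Subtype.ext (by simpa [pow_two] using hEsq x x.2)⟩).exists_le_sylow
  haveI hQc : IsCyclic (Q : Subgroup Y) := (S.equiv Q).isCyclic.1 hc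
  letI := Fintype.ofFinite (Q : Subgroup Y)
  set u : (Q : Subgroup Y) := ⟨a, hQ (Subgroup.subset_closure (by simp))⟩ with hu'
  set v : (Q : Subgroup Y) := ⟨b, hQ (Subgroup.subset_closure (by simp))⟩ with hv'
  have h1 := IsCyclic.card_pow_eq_one_le (α := (Q : Subgroup Y)) (n := 2) two_pos
  have h2 : ({1, u, v} : Finset (Q : Subgroup Y)) ⊆ Finset.univ.filter fun c => c ^ 2 = 1 := by
    intro c hc
    simp only [Finset.mem_insert, Finset.mem_singleton] at hc
    refine Finset.mem_filter.2 ⟨Finset.mem_univ _, ?_⟩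
    rcases hc with rfl | rfl | rfl
    · exact one_pow 2
    · exact Subtype.ext (by rw [pow_two]; exact invol_mul_self ha)
    · exact Subtype.ext (by rw [pow_two]; exact invol_mul_self hb)
  have h3 := (Finset.card_le_card h2).trans h1
  have n1 : (1 : (Q : Subgroup Y)) ≠ u := fun e => invol_ne_one ha (congrArg Subtype.val e).symm
  have n2 : (1 : (Q : Subgroup Y)) ≠ v := fun e => invol_ne_one hb (congrArg Subtype.val e).symm
  rw [Finset.card_insert_of_notMem (by simp [n1, n2]),
    Finset.card_pair (fun e => hne (congrArg Subtype.val e))] at h3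
  omega

variable {L : Subgroup Y}

/-- The involutions outside `L` are conjugate, and each commutes with an involution of `L`. -/
theorem invol_outside (hD : HasDihedralSylow Y) (hL : L.index = 2) (hp : HasPair L) {u : Y}
    (hu : orderOf u = 2) (huL : u ∉ L) :
    (∀ v, orderOf v = 2 → v ∉ L → IsConj u v) ∧ ∃ z ∈ L, orderOf z = 2 ∧ u * z = z * u := by
  classical
  haveI : Fact (Nat.Prime 2) := ⟨Nat.prime_two⟩
  haveI hn : L.Normal := Subgroup.normal_of_index_eq_two hL
  obtain ⟨a, haL, b, hbL, ha, hb, hne, hab⟩ := hp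
  -- a Sylow subgroup containing the four group
  have hE : IsPGroup 2 (Subgroup.zpowers a ⊔ Subgroup.zpowers b : Subgroup Y) := by
    refine IsPGroup.to_sup_of_normal_left' ?_ ?_ ?_
    · exact IsPGroup.of_card (n := 1) (by rw [Nat.card_zpowers, ha, pow_one])
    · exact IsPGroup.of_card (n := 1) (by rw [Nat.card_zpowers, hb, pow_one])
    · rw [Subgroup.zpowers_le]
      refine Subgroup.centralizer_le_normalizer _ ?_
      rw [Subgroup.mem_centralizer_iff]
      intro w hw
      obtain ⟨k, rfl⟩ := hw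
      exact ((show Commute a b from hab).zpow_left k)
  obtain ⟨S, hS⟩ := hE.exists_le_sylow
  obtain ⟨m, hm, ⟨e⟩⟩ := hD S
  let D : Coords S m := Coords.ofEquiv e
  haveI : NeZero m := ⟨by omega⟩
  have haS : a ∈ (S : Subgroup Y) := hS (Subgroup.mem_sup_left (Subgroup.mem_zpowers a))
  have hbS : b ∈ (S : Subgroup Y) := hS (Subgroup.mem_sup_right (Subgroup.mem_zpowers b))
  obtain ⟨g, hg⟩ := exists_conj_mem_sylow D hu
  have hgo : orderOf (g * u * g⁻¹) = 2 := (orderOf_conj_eq g u).trans hu
  have hgL : g * u * g⁻¹ ∉ L := fun e' => huL (by simpa [mul_assoc] using hn.conj_mem _ e' g⁻¹)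
  -- the rotation is outside `L`
  obtain ⟨i₀, hi₀⟩ : ∃ i, D.φ (sr i) ∈ L := by
    rcases D.invol_cases hm haS ha with ea | ⟨i, ea⟩
    · rcases D.invol_cases hm hbS hb with eb | ⟨i, eb⟩
      · exact absurd (ea.trans eb.symm) hne
      · exact ⟨i, eb ▸ hbL⟩
    · exact ⟨i, ea ▸ haL⟩
  have hr1 : D.φ (r 1) ∉ L := by
    intro h1
    have hall : ∀ i : ZMod m, D.φ (r i) ∈ L := by
      intro i
      rw [← ZMod.natCast_zmod_val i, show (r (i.val : ZMod m) : DihedralGroup m) = r 1 ^ i.val by simp,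
        map_pow]
      exact L.pow_mem h1 _
    apply hgL
    rcases D.cases hg with ⟨i, ei⟩ | ⟨i, ei⟩
    · exact ei ▸ hall i
    · rw [← ei]
      have := L.mul_mem hi₀ (hall (i - i₀))
      rw [← map_mul, sr_mul_r, add_sub_cancel] at this
      exact this
  have hsq : ∀ w, w * w ∈ L := fun w => Subgroup.mul_self_mem_of_index_two hL w
  have hm2 : 2 ∣ m := D.two_dvd hm
  have hm4 : 4 ≤ m := by
    by_contra hlt
    obtain ⟨k, hk⟩ := D.exists_pow hm
    have hm2' : m = 2 := by
      rcases k with _ | k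
      · simpa using hk
      · have : 4 ≤ 2 ^ (k + 1 + 1) := Nat.pow_le_pow_right two_pos (show 2 ≤ k + 1 + 1 by omega)
        omega
    subst hm2'
    apply hr1
    have key : ∀ (x y : DihedralGroup 2), x * x = 1 → y * y = 1 → x ≠ 1 → y ≠ 1 → x ≠ y →
        r 1 = x ∨ r 1 = y ∨ r 1 = x * y := by decide +revert
    obtain ⟨xa, hxa⟩ := D.exists_eq haS
    obtain ⟨xb, hxb⟩ := D.exists_eq hbS
    have conv : ∀ x : DihedralGroup 2, D.φ x * D.φ x = 1 → x * x = 1 := fun x hx =>
      D.inj (by rw [map_mul, hx, map_one])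
    rcases key xa xb (conv _ (by rw [hxa, invol_mul_self ha])) (conv _ (by rw [hxb, invol_mul_self hb]))
      (fun e' => invol_ne_one ha (by rw [← hxa, e', map_one]))
      (fun e' => invol_ne_one hb (by rw [← hxb, e', map_one]))
      (fun e' => hne (by rw [← hxa, ← hxb, e'])) with h' | h' | h' <;> rw [h']
    · rw [hxa]; exact haL
    · rw [hxb]; exact hbL
    · rw [map_mul, hxa, hxb]; exact L.mul_mem haL hbL
  have hhalf : D.φ (r ((m / 2 : ℕ) : ZMod m)) ∈ L := by
    have h4 : 4 ∣ m := D.four_dvd hm4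
    have := hsq (D.φ (r ((m / 4 : ℕ) : ZMod m)))
    rwa [← map_mul, r_mul_r, ← Nat.cast_add, show m / 4 + m / 4 = m / 2 by omega] at this
  have hout : ∀ w ∈ (S : Subgroup Y), orderOf w = 2 → w ∉ L → ∃ i, w = D.φ (sr i) := by
    intro w hw hw2 hwL
    rcases D.invol_cases hm hw hw2 with e' | e'
    · exact absurd (e' ▸ hhalf) hwL
    · exact e'
  obtain ⟨i, hi⟩ := hout _ hg hgo hgL
  refine ⟨fun v hv hvL => ?_, ?_⟩
  · obtain ⟨g', hg'⟩ := exists_conj_mem_sylow D hv
    have hgo' : orderOf (g' * v * g'⁻¹) = 2 := (orderOf_conj_eq g' v).trans hv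
    have hgL' : g' * v * g'⁻¹ ∉ L := fun e' => hvL (by simpa [mul_assoc] using hn.conj_mem _ e' g'⁻¹)
    obtain ⟨j, hj⟩ := hout _ hg' hgo' hgL'
    -- equal parities
    have hji : D.φ (r (j - i)) ∈ L := by
      have := (Subgroup.mul_mem_iff_of_index_two hL).2 (iff_of_false hgL hgL')
      rwa [hi, hj, ← map_mul, sr_mul_sr] at this
    obtain ⟨k, hk⟩ : ∃ k : ZMod m, j = i + 2 * k := by
      rcases Nat.even_or_odd (j - i).val with ⟨c, hc⟩ | ⟨c, hc⟩
      · refine ⟨(c : ZMod m), ?_⟩
        have := ZMod.natCast_zmod_val (j - i)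
        rw [hc, Nat.cast_add] at this
        linear_combination (-1 : ZMod m) * this
      · exfalso
        apply hr1
        have := ZMod.natCast_zmod_val (j - i)
        rw [hc, Nat.cast_add, Nat.cast_mul, Nat.cast_one] at this
        rw [← this, show ((2 : ℕ) : ZMod m) * (c : ZMod m) = (c : ZMod m) + c by push_cast; ring,
          ← r_mul_r, ← r_mul_r, map_mul, map_mul] at hji
        have := L.mul_mem (L.inv_mem (hsq (D.φ (r (c : ZMod m))))) hji
        rwa [inv_mul_cancel_left] at this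
    refine (isConj_iff.2 ⟨g, hi⟩).trans ((?_ : IsConj (D.φ (sr i)) (D.φ (sr j))).trans
      (isConj_iff.2 ⟨g', hj⟩).symm)
    refine isConj_iff.2 ⟨D.φ (r (-k)), ?_⟩
    rw [← map_inv, ← map_mul, ← map_mul, inv_r, r_mul_sr, sr_mul_r, hk]
    congr 2
    ring
  · refine ⟨g⁻¹ * D.φ (r ((m / 2 : ℕ) : ZMod m)) * g, by simpa using hn.conj_mem _ hhalf g⁻¹, ?_, ?_⟩
    · have := orderOf_conj_eq g⁻¹ (D.φ (r ((m / 2 : ℕ) : ZMod m)))
      rw [inv_inv] at this
      rw [this]
      exact D.orderOf_half hm hm2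
    · have hc : D.φ (sr i) * D.φ (r ((m / 2 : ℕ) : ZMod m)) =
          D.φ (r ((m / 2 : ℕ) : ZMod m)) * D.φ (sr i) := by
        rw [← map_mul, ← map_mul, sr_mul_r, r_mul_sr, sub_eq_add_neg,
          neg_eq_of_add_eq_zero_right (half_add_half (D.four_dvd hm4))]
      calc u * (g⁻¹ * D.φ (r ((m / 2 : ℕ) : ZMod m)) * g)
          = g⁻¹ * (g * u * g⁻¹ * D.φ (r ((m / 2 : ℕ) : ZMod m))) * g := by group
        _ = g⁻¹ * (D.φ (r ((m / 2 : ℕ) : ZMod m)) * (g * u * g⁻¹)) * g := by rw [hi, hc]
        _ = _ := by group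

end Cfsg.Agent.Lib.GenDihedral3322
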