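import Cfsg.Agent.Lib.GenDihedral3322.Basic
import Cfsg.Agent.Lib.GenDihedral3322.Outside
import Cfsg.Agent.Lib.GorensteinWalter.ModelPSL
import Cfsg.Agent.Lib.GorensteinWalter.ModelAlt
import Cfsg.Agent.Lib.GWConsumers12.RankOne
import Cfsg.Agent.Lib.Linear.Order
import Cfsg.Agent.Lib.RecogThree.M12.Graph.Perfect

/-!
# Core-free groups with dihedral Sylow 2-subgroups and a generalized dihedral centralizer

Given the Gorenstein–Walter theorem, they are `PSL(2,q)` or `PGL(2,q)`.
-/

set_option autoImplicit false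
set_option linter.style.haveILetI false

universe u

namespace Cfsg.Agent.Lib.GenDihedral3322

open Cfsg.Agent.Lib.Involutions.Basic
open Cfsg.Agent.Lib.GorensteinWalter Cfsg.Agent.Lib.GorensteinWalter.Model
open Cfsg.Agent.Lib.AutPSL Cfsg.Agent.Lib.Fusion.Dihedral
open scoped MatrixGroups

variable {X : Type u} [Group X] [Finite X]

/-- `C(t) = H` is abelian `A` extended by inversion, with `t` the only involution of `A`. -/
structure OneCent (H A : Subgroup X) (t : X) : Prop where
  mem : t ∈ A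
  ord : orderOf t = 2
  le : A ≤ H
  cent : Subgroup.centralizer ({t} : Set X) = H
  comm : ∀ a ∈ A, ∀ b ∈ A, a * b = b * a
  uniq : ∀ a ∈ A, a * a = 1 → a = 1 ∨ a = t
  sq : ∀ x ∈ H, x ∉ A → x * x = 1
  coset : ∀ x ∈ H, ∀ y ∈ H, x ∉ A → y ∉ A → x * y ∈ A

omit [Finite X] in
theorem OneCent.mem_iff {H A : Subgroup X} {t : X} (h : OneCent H A t) {y : X} :
    y * t = t * y ↔ y ∈ H := by
  rw [← Subgroup.mem_centralizer_singleton_iff, h.cent]

omit [Finite X] in
theorem OneCent.inv {H A : Subgroup X} {t : X} (h : OneCent H A t) {x a : X} (hx : x ∈ H)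
    (hxA : x ∉ A) (ha : a ∈ A) : x * a * x⁻¹ = a⁻¹ := by
  have hxa : x * a ∉ A := fun e => hxA (by simpa using A.mul_mem e (A.inv_mem ha))
  have h1 := h.sq _ (H.mul_mem hx (h.le ha)) hxa
  rw [inv_eq_of_mul_eq_one_right (h.sq x hx hxA)]
  calc x * a * x = x * a * (x * a) * a⁻¹ := by group
    _ = a⁻¹ := by rw [h1, one_mul]

section alt

local notation "S7" => Equiv.Perm (Fin 7)

/-- The model `A₇` does not occur. -/
theorem not_alt {H A : Subgroup X} {t : X} (h : OneCent H A t) (L : Subgroup X) [L.Normal]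
    (e : L ≃* alternatingGroup (Fin 7)) (hc : Subgroup.centralizer (L : Set X) = ⊥)
    (hD : HasDihedralSylow X) (hone : ∀ a b : L, orderOf a = 2 → orderOf b = 2 → IsConj a b) :
    False := by
  classical
  have h4 : 4 ≤ Fintype.card (Fin 7) := by decide
  have h6 : Fintype.card (Fin 7) ≠ 6 := by decide
  let π : X →* S7 := (Alternating.autEquiv h4 h6).symm.toMonoidHom.comp (autHom L e)
  have hπ : Function.Injective π :=
    (Alternating.autEquiv h4 h6).symm.injective.comp (autHom_injective L e hc)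
  have hπL : ∀ a : alternatingGroup (Fin 7), π (e.symm a : X) = (a : S7) := by
    intro a
    show (Alternating.autEquiv h4 h6).symm (autHom L e (e.symm a : X)) = _
    rw [autHom_of_mem, MulEquiv.apply_symm_apply, MulEquiv.symm_apply_eq]
    refine MulEquiv.ext fun b => Subtype.ext ?_
    change ((a * b * a⁻¹ : alternatingGroup (Fin 7)) : S7) = (MulAut.conjNormal (a : S7) b : S7)
    rw [MulAut.conjNormal_apply]
    simp
  have hsign : ∀ x, Equiv.Perm.sign (π x) = 1 := by
    intro x
    by_contra hx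
    have hodd : Equiv.Perm.sign (π x) = -1 := (Int.units_eq_one_or _).resolve_left hx
    have hsurj : ∀ p : S7, ∃ y, π y = p := by
      intro p
      by_cases hp : Equiv.Perm.sign p = 1
      · exact ⟨_, hπL ⟨p, Equiv.Perm.mem_alternatingGroup.2 hp⟩⟩
      · have hp' : Equiv.Perm.sign p = -1 := (Int.units_eq_one_or _).resolve_left hp
        refine ⟨(e.symm ⟨p * (π x)⁻¹, Equiv.Perm.mem_alternatingGroup.2 ?_⟩ : X) * x, ?_⟩
        · rw [map_mul, map_inv, hp', hodd]; decide
        · rw [map_mul, hπL]; exact inv_mul_cancel_right p (π x)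
    obtain ⟨w, hw⟩ := hsurj (Equiv.swap 0 1)
    obtain ⟨a, ha⟩ := hsurj (Equiv.swap 2 3)
    obtain ⟨b, hb⟩ := hsurj (Equiv.swap 4 5)
    refine no_eight hD (w := w) (a := a) (b := b) (hπ ?_) (hπ ?_) (hπ ?_) (hπ ?_) (hπ ?_) (hπ ?_)
      (fun h => ?_) (fun h => ?_) (fun h => ?_) (fun h => ?_) (fun h => ?_) (fun h => ?_)
      (fun h => ?_)
    all_goals first
      | (rw [map_mul, hw, map_one]; decide)
      | (rw [map_mul, ha, map_one]; decide)
      | (rw [map_mul, hb, map_one]; decide)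
      | (simp only [map_mul, hw, ha, hb]; decide)
      | (replace h := congrArg π h; simp only [map_mul, map_one, hw, ha, hb] at h; revert h; decide)
  -- so `t` lies in `L`
  obtain ⟨t₀, ht₀⟩ : ∃ t₀ : L, (t₀ : X) = t := ⟨e.symm ⟨π t, Equiv.Perm.mem_alternatingGroup.2 (hsign t)⟩,
    hπ (hπL _)⟩
  have ht₀o : orderOf t₀ = 2 := by rw [← Subgroup.orderOf_coe, ht₀, h.ord]
  let τ : alternatingGroup (Fin 7) := ⟨Equiv.swap 0 1 * Equiv.swap 2 3, Equiv.Perm.mem_alternatingGroup.2 (by decide)⟩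
  let c₁ : alternatingGroup (Fin 7) := ⟨Equiv.swap 0 2 * Equiv.swap 1 3, Equiv.Perm.mem_alternatingGroup.2 (by decide)⟩
  let c₂ : alternatingGroup (Fin 7) := ⟨Equiv.swap 4 5 * Equiv.swap 5 6, Equiv.Perm.mem_alternatingGroup.2 (by decide)⟩
  have hτ : orderOf (e.symm τ) = 2 := by
    rw [MulEquiv.orderOf_eq]
    exact invol_iff.2 ⟨by decide, by decide⟩
  obtain ⟨g, hg⟩ := isConj_iff.1 (hone _ _ hτ ht₀o)
  set w₁ : L := g * e.symm c₁ * g⁻¹ with hw₁
  set w₂ : L := g * e.symm c₂ * g⁻¹ with hw₂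
  have hmem : ∀ c : alternatingGroup (Fin 7), c * τ = τ * c → ((g * e.symm c * g⁻¹ : L) : X) ∈ H := by
    intro c hc'
    refine h.mem_iff.1 ?_
    rw [← ht₀, ← Subgroup.coe_mul, ← Subgroup.coe_mul]
    refine congrArg Subtype.val ?_
    rw [← hg]
    calc g * e.symm c * g⁻¹ * (g * e.symm τ * g⁻¹) = g * (e.symm c * e.symm τ) * g⁻¹ := by group
      _ = g * e.symm τ * g⁻¹ * (g * e.symm c * g⁻¹) := by rw [← map_mul, hc', map_mul]; group
  have h1 : (w₁ : X) ∈ H := hmem c₁ (by decide)
  have h2 : (w₂ : X) ∈ H := hmem c₂ (by decide)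
  have hinj : ∀ c c' : alternatingGroup (Fin 7),
      ((g * e.symm c * g⁻¹ : L) : X) = (g * e.symm c' * g⁻¹ : L) → c = c' := fun c c' hcc =>
    e.symm.injective (mul_left_cancel (mul_right_cancel (Subtype.ext hcc)))
  have hprod : ∀ c c' : alternatingGroup (Fin 7), ((g * e.symm c * g⁻¹ : L) : X) * (g * e.symm c' * g⁻¹ : L) =
      (g * e.symm (c * c') * g⁻¹ : L) := by
    intro c c'
    rw [← Subgroup.coe_mul, map_mul]
    congr 1
    group
  have hone' : ((g * e.symm 1 * g⁻¹ : L) : X) = 1 := by simp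
  set w := (w₁ : X) * w₂ with hw
  have hwA : w ∈ A := by
    by_contra hwA
    have := h.sq w (H.mul_mem h1 h2) hwA
    rw [hw, hw₁, hw₂, hprod, hprod, ← hone'] at this
    exact absurd (hinj _ _ this) (by decide)
  have hw1A : (w₁ : X) ∈ A := by
    have := A.mul_mem (A.mul_mem hwA hwA) hwA
    rw [hw, hw₁, hw₂, hprod, hprod, hprod] at this
    rwa [show c₁ * c₂ * (c₁ * c₂) * (c₁ * c₂) = c₁ by decide, ← hw₁] at this
  rcases h.uniq _ hw1A (by rw [hw₁, hprod, show c₁ * c₁ = 1 by decide, hone']) with e1 | e1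
  · rw [← hone', hw₁] at e1
    exact absurd (hinj _ _ e1) (by decide)
  · rw [← ht₀, ← hg, hw₁] at e1
    exact absurd (hinj _ _ e1) (by decide)

end alt

/-- A dihedral perfect core-free group has a pair of commuting involutions. -/
theorem hasPair_of_dihedral {Y : Type u} [Group Y] [Finite Y] (hD : HasDihedralSylow Y) :
    HasPair (⊤ : Subgroup Y) := by
  obtain ⟨S⟩ : Nonempty (Sylow 2 Y) := inferInstance
  obtain ⟨m, hm, ⟨e⟩⟩ := hD S
  let D : Coords S m := Coords.ofEquiv e
  obtain ⟨R, -, hf, hs, hr⟩ := D.exists_four_of_le hm 0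
  refine ⟨_, Subgroup.mem_top _, _, Subgroup.mem_top _, D.orderOf_sr' 0,
    D.orderOf_half hm (D.two_dvd hm), fun e' => ?_, hf.comm hs hr⟩
  have := D.inj e'
  simp at this

/-- In a perfect group with dihedral Sylow 2-subgroups all involutions are conjugate. -/
theorem isConj_of_perfect {Y : Type u} [Group Y] [Finite Y] [Group.IsPerfect Y] (hD : HasDihedralSylow Y)
    (a b : Y) (ha : orderOf a = 2) (hb : orderOf b = 2) : IsConj a b := by
  obtain ⟨S⟩ : Nonempty (Sylow 2 Y) := inferInstance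
  obtain ⟨n, hn, ⟨e⟩⟩ := hD S
  let D : Coords S n := Coords.ofEquiv e
  refine D.isConj_of_three hn (fun U hU hf => ?_) a b ha hb
  by_contra h3
  obtain ⟨K, hK⟩ := D.exists_index_two hn hU hf fun k hk ho => commute_of_not_three hf h3 hk ho
  exact no_index_two K hK

/-- The subgroup `L ∪ L t`. -/
def adjoin (L : Subgroup X) [hL : L.Normal] (t : X) (ht : t * t = 1) : Subgroup X where
  carrier := {y | y ∈ L ∨ y * t ∈ L}
  one_mem' := .inl L.one_mem
  mul_mem' := by
    rintro y z (hy | hy) (hz | hz)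
    · exact .inl (L.mul_mem hy hz)
    · exact .inr (by rw [mul_assoc]; exact L.mul_mem hy hz)
    · refine .inr ?_
      have h' : t⁻¹ * z * t ∈ L := by simpa using hL.conj_mem _ hz t⁻¹
      have := L.mul_mem hy h'
      rwa [show y * t * (t⁻¹ * z * t) = y * z * t by group] at this
    · refine .inl ?_
      have h' : t⁻¹ * (z * t) * t⁻¹⁻¹ ∈ L := hL.conj_mem _ hz t⁻¹
      have := L.mul_mem hy h'
      rwa [show y * t * (t⁻¹ * (z * t) * t⁻¹⁻¹) = y * z * (t * t) by group, ht, mul_one] at this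
  inv_mem' := by
    rintro y (hy | hy)
    · exact .inl (L.inv_mem hy)
    · refine .inr ?_
      have := hL.conj_mem _ (L.inv_mem hy) t
      rwa [show t * (y * t)⁻¹ * t⁻¹ = y⁻¹ * t⁻¹ by group, inv_eq_of_mul_eq_one_right ht] at this

/-- The key step: every element moves `t` as an element of `L` does. -/
theorem exists_mul_mem {H A : Subgroup X} {t : X} (h : OneCent H A t) (L : Subgroup X) [L.Normal]
    (hSL : SylowCD X) (hp : HasPair L) (hone : ∀ a b : L, orderOf a = 2 → orderOf b = 2 → IsConj a b)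
    (hcom : ∀ k : X, k * t * k⁻¹ * t⁻¹ ∈ L) :
    (∀ k : X, ∃ l ∈ L, l * k ∈ H) ∧ ∃ u ∈ L, u ∈ H ∧ u ∉ A := by
  classical
  have htt := invol_mul_self h.ord
  have main : (∀ k : X, ∃ l ∈ L, l * t * l⁻¹ = k * t * k⁻¹) ∧
      ∃ z ∈ L, orderOf z = 2 ∧ z ≠ t ∧ t * z = z * t := by
    by_cases htL : t ∈ L
    · constructor
      · intro k
        obtain ⟨g, hg⟩ := isConj_iff.1 (hone ⟨t, htL⟩ ⟨k * t * k⁻¹, (inferInstance : L.Normal).conj_mem _ htL k⟩
          (by rw [Subgroup.orderOf_mk, h.ord])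
          (by rw [Subgroup.orderOf_mk, orderOf_conj_eq, h.ord]))
        exact ⟨g, g.2, congrArg Subtype.val hg⟩
      · obtain ⟨a, haL, b, hbL, ha, hb, hne, hab⟩ := hp
        obtain ⟨g, hg⟩ := isConj_iff.1 (hone ⟨a, haL⟩ ⟨t, htL⟩ (by rw [Subgroup.orderOf_mk, ha])
          (by rw [Subgroup.orderOf_mk, h.ord]))
        have hg' : (g : X) * a * (g : X)⁻¹ = t := congrArg Subtype.val hg
        refine ⟨g * b * (g : X)⁻¹, L.mul_mem (L.mul_mem g.2 hbL) (L.inv_mem g.2),
          (orderOf_conj_eq _ _).trans hb, fun e => hne ?_, ?_⟩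
        · exact mul_left_cancel (mul_right_cancel (hg'.trans e.symm))
        · rw [← hg']
          calc (g : X) * a * (g : X)⁻¹ * (g * b * (g : X)⁻¹) = g * (a * b) * (g : X)⁻¹ := by group
            _ = _ := by rw [hab]; group
    · set Y := adjoin L t htt with hY
      have hLY : L ≤ Y := fun y hy => Or.inl hy
      have htY : t ∈ Y := Or.inr (by rw [htt]; exact L.one_mem)
      have hidx : (L.subgroupOf Y).index = 2 := by
        rw [Subgroup.index_eq_two_iff']
        refine ⟨⟨t, htY⟩, fun y => ?_⟩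
        rw [Subgroup.mem_subgroupOf, Subgroup.mem_subgroupOf]
        show Xor ((t : X) * y ∈ L) ((y : X) ∈ L)
        rcases y.2 with hy | hy
        · refine .inr ⟨hy, fun e => htL ?_⟩
          simpa using L.mul_mem e (L.inv_mem hy)
        · refine .inl ⟨?_, fun e => htL ?_⟩
          · have := (inferInstance : L.Normal).conj_mem _ hy t
            rwa [show t * ((y : X) * t) * t⁻¹ = t * y by group] at this
          · simpa using L.mul_mem (L.inv_mem e) hy
      have hpY : HasPair (L.subgroupOf Y) := by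
        obtain ⟨a, haL, b, hbL, ha, hb, hne, hab⟩ := hp
        exact ⟨⟨a, hLY haL⟩, haL, ⟨b, hLY hbL⟩, hbL, by rw [Subgroup.orderOf_mk, ha],
          by rw [Subgroup.orderOf_mk, hb], fun e => hne (congrArg Subtype.val e), Subtype.ext hab⟩
      have hDY : HasDihedralSylow Y := hasDihedralSylow_of_pair (hSL.subgroup Y) (by
        obtain ⟨a, -, b, -, r⟩ := hpY
        exact ⟨a, Subgroup.mem_top _, b, Subgroup.mem_top _, r⟩)
      obtain ⟨hconj, z, hzL, hz, hcz⟩ := invol_outside hDY hidx hpY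
        (u := ⟨t, htY⟩) (by rw [Subgroup.orderOf_mk, h.ord]) htL
      refine ⟨fun k => ?_, z, hzL, by rw [Subgroup.orderOf_coe, hz], fun e => htL (e ▸ hzL),
        congrArg Subtype.val hcz⟩
      have hkY : k * t * k⁻¹ ∈ Y := Or.inr (by
        have := hcom k
        rwa [invol_inv h.ord] at this)
      obtain ⟨⟨y, hy⟩, hyt⟩ := isConj_iff.1 (hconj ⟨k * t * k⁻¹, hkY⟩
        (by rw [Subgroup.orderOf_mk, orderOf_conj_eq, h.ord]) (fun e => htL (by
          simpa [mul_assoc] using (inferInstance : L.Normal).conj_mem _ e k⁻¹)))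
      have hyt' : y * t * y⁻¹ = k * t * k⁻¹ := congrArg Subtype.val hyt
      rcases hy with hy | hy
      · exact ⟨y, hy, hyt'⟩
      · exact ⟨y * t, hy, by rw [← hyt']; group⟩
  obtain ⟨hmove, z, hzL, hz, hzt, hcz⟩ := main
  refine ⟨fun k => ?_, z, hzL, h.mem_iff.1 hcz.symm, fun hzA => ?_⟩
  · obtain ⟨l, hl, hlt⟩ := hmove k
    refine ⟨l⁻¹, L.inv_mem hl, h.mem_iff.1 ?_⟩
    calc l⁻¹ * k * t = l⁻¹ * (k * t * k⁻¹) * k := by group
      _ = t * (l⁻¹ * k) := by rw [← hlt]; group
  · rcases h.uniq z hzA (invol_mul_self hz) with e | e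
    · exact invol_ne_one hz e
    · exact hzt e

/-- The quotient by `L` has order at most two. -/
theorem index_le_two {H A : Subgroup X} {t : X} (h : OneCent H A t) (L : Subgroup X) [L.Normal]
    (hmul : ∀ k : X, ∃ l ∈ L, l * k ∈ H) {u : X} (huL : u ∈ L) (hu : u ∈ H) (huA : u ∉ A) :
    L.index ≤ 2 := by
  let f : A →* X ⧸ L := (QuotientGroup.mk' L).comp A.subtype
  have hf : Function.Surjective f := by
    intro q
    obtain ⟨k, rfl⟩ := QuotientGroup.mk_surjective q
    obtain ⟨l, hl, hlk⟩ := hmul k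
    by_cases hA : l * k ∈ A
    · refine ⟨⟨_, hA⟩, QuotientGroup.eq.2 ?_⟩
      show (l * k)⁻¹ * k ∈ L
      have := (inferInstance : L.Normal).conj_mem _ (L.inv_mem hl) k⁻¹
      simpa [mul_assoc] using this
    · refine ⟨⟨_, h.coset u hu _ hlk huA hA⟩, QuotientGroup.eq.2 ?_⟩
      show (u * (l * k))⁻¹ * k ∈ L
      have := (inferInstance : L.Normal).conj_mem _ (L.inv_mem (L.mul_mem huL hl)) k⁻¹
      simpa [mul_assoc] using this
  let sq : A →* A := MonoidHom.mk' (fun a => a * a) fun a b => by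
    have hab : a * b = b * a := Subtype.ext (h.comm _ a.2 _ b.2)
    show a * b * (a * b) = a * a * (b * b)
    calc a * b * (a * b) = a * (b * a) * b := by group
      _ = a * a * (b * b) := by rw [← hab]; group
  have hle : sq.range ≤ f.ker := by
    rintro _ ⟨a, rfl⟩
    rw [MonoidHom.mem_ker]
    show ((a * a : A) : X ⧸ L) = 1
    rw [QuotientGroup.eq_one_iff, Subgroup.coe_mul]
    have h1 : u * (a : X)⁻¹ * u⁻¹ = a := by rw [h.inv hu huA (A.inv_mem a.2), inv_inv]
    have := L.mul_mem ((inferInstance : L.Normal).conj_mem u huL (a : X)) (L.inv_mem huL)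
    rwa [show (a : X) * u * (a : X)⁻¹ * u⁻¹ = a * (u * (a : X)⁻¹ * u⁻¹) by group, h1] at this
  have h1 := Subgroup.index_dvd_of_le hle
  have h2 : sq.range.index = Nat.card sq.ker := by
    have e1 := sq.ker.card_mul_index
    have e2 := sq.range.card_mul_index
    rw [Subgroup.index_ker, mul_comm] at e1
    exact Nat.eq_of_mul_eq_mul_left Nat.card_pos (e2.trans e1.symm)
  have h3 : Nat.card sq.ker ≤ 2 := by
    classical
    have hinj : Function.Injective fun a : sq.ker => decide (((a : A) : X) = 1) := by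
      intro a b hab
      have ha := h.uniq _ (a : A).2 (congrArg Subtype.val (MonoidHom.mem_ker.1 a.2))
      have hb := h.uniq _ (b : A).2 (congrArg Subtype.val (MonoidHom.mem_ker.1 b.2))
      simp only [decide_eq_decide] at hab
      refine Subtype.ext (Subtype.ext ?_)
      rcases ha with ha | ha <;> rcases hb with hb | hb
      · rw [ha, hb]
      · exact ha.trans (hab.1 ha).symm
      · exact (hab.2 hb).trans hb.symm
      · rw [ha, hb]
    simpa using Nat.card_le_card_of_injective _ hinj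
  rw [Subgroup.index_ker, MonoidHom.range_eq_top.2 hf, Subgroup.card_top,
    ← Subgroup.index_eq_card] at h1
  exact (Nat.le_of_dvd (by rw [h2]; exact Nat.card_pos) h1).trans (h2 ▸ h3)

/-- **The model.** -/
theorem exists_equiv (hGW : GWConsumers12.GWPerfect.{u}) {H A : Subgroup X} {t : X} (h : OneCent H A t)
    (hO : Cfsg.oddCore X = ⊥) (hD : HasDihedralSylow X) (hns : ¬ Group.IsSolvable X) :
    ∃ (F : Type) (_ : Field F) (_ : Fintype F), 3 < Fintype.card F ∧
      (Nonempty (X ≃* Matrix.ProjectiveSpecialLinearGroup (Fin 2) F) ∨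
        Nonempty (X ≃* Matrix.ProjGenLinGroup (Fin 2) F)) := by
  classical
  haveI : Fact (Nat.Prime 2) := ⟨Nat.prime_two⟩
  obtain ⟨L, -, hLn, hLne, hLL, -⟩ := RecogThree.M12.Graph.Perfect.exists_perfect (⊤ : Subgroup X) (fun hs => hns (by
    haveI := hs
    exact Group.isSolvable_of_surjective (f := (⊤ : Subgroup X).subtype) (fun x => ⟨⟨x, trivial⟩, rfl⟩)))
  haveI := hLn
  haveI hperf : Group.IsPerfect L := ⟨RecogThree.M12.Graph.Perfect.commutator_eq_top hLL⟩
  haveI : Nontrivial L := (Subgroup.nontrivial_iff_ne_bot L).2 hLne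
  have hSD : SylowCD X := hD.sylowCD
  have hOL : Cfsg.oddCore L = ⊥ := by
    have hn' : ((Cfsg.oddCore L).map L.subtype).Normal := Cores.normal_map_subtype L _
    have hle : (Cfsg.oddCore L).map L.subtype ≤ Cfsg.oddCore X := Cores.le_oddCore (by
      rw [Subgroup.card_map_of_injective L.subtype_injective]
      exact ZStar.Elements.oddCore_odd)
    rw [hO, le_bot_iff, Subgroup.map_eq_bot_iff_of_injective _ L.subtype_injective] at hle
    exact hle
  obtain ⟨hsimp, hna, hDL⟩ := SylowCD.simple_of_perfect (hSD.subgroup L) hOL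
  have hpair : HasPair L := by
    obtain ⟨a, -, b, -, ha, hb, hne, hab⟩ := hasPair_of_dihedral hDL
    exact ⟨a, a.2, b, b.2, by rw [Subgroup.orderOf_coe, ha], by rw [Subgroup.orderOf_coe, hb],
      fun e => hne (Subtype.ext e), congrArg Subtype.val hab⟩
  have hone := isConj_of_perfect hDL
  have hc : Subgroup.centralizer (L : Set X) = ⊥ := by
    set C := Subgroup.centralizer (L : Set X) with hC
    have hCL : ∀ x ∈ C, x ∈ L → x = 1 := by
      intro x hx hxL
      have hz : (⟨x, hxL⟩ : L) ∈ Subgroup.center L := Subgroup.mem_center_iff.2 fun l =>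
        Subtype.ext (Subgroup.mem_centralizer_iff.1 hx l l.2)
      haveI := hsimp
      rcases (inferInstance : (Subgroup.center L).Normal).eq_bot_or_eq_top with e | e
      · rw [e, Subgroup.mem_bot] at hz; exact congrArg Subtype.val hz
      · exact absurd ⟨⟨fun a b => Subgroup.mem_center_iff.1 (e ▸ Subgroup.mem_top b) a⟩⟩ hna
    haveI : C.Normal := hC ▸ Subgroup.normal_centralizer
    have hodd : Odd (Nat.card C) := by
      rw [odd_card_iff_no_invol]
      intro w hw hw2
      obtain ⟨a, haL, b, hbL, ha, hb, hne, hab⟩ := hpair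
      have hwc : ∀ l ∈ L, w * l = l * w := fun l hl => (Subgroup.mem_centralizer_iff.1 hw l hl).symm
      have hwn : ∀ l ∈ L, w ≠ l := fun l hl e => invol_ne_one hw2 (hCL w hw (e ▸ hl))
      exact no_eight hD (invol_mul_self hw2) (invol_mul_self ha) (invol_mul_self hb) (hwc a haL) (hwc b hbL)
        hab (invol_ne_one ha) (invol_ne_one hb) hne (invol_ne_one hw2) (hwn a haL) (hwn b hbL)
        (hwn _ (L.mul_mem haL hbL))
    exact le_bot_iff.1 (hO ▸ Cores.le_oddCore hodd)
  obtain ⟨S⟩ : Nonempty (Sylow 2 L) := inferInstance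
  obtain ⟨n, hn, hS⟩ := hDL S
  have eL : L ≃* L ⧸ Cfsg.oddCore L :=
    QuotientGroup.quotientBot.symm.trans (QuotientGroup.quotientMulEquivOfEq hOL.symm)
  rcases hGW L S n hn hS with ⟨F, i1, i2, hodd, hF3, ⟨e'⟩⟩ | ⟨⟨e'⟩⟩
  swap
  · exact (not_alt h L (eL.trans e') hc hD hone).elim
  let e := eL.trans e'
  have hchar : ringChar F ≠ 2 := fun h2 => by
    have := FiniteField.even_card_of_char_two h2
    rw [← Nat.not_even_iff_odd, Nat.even_iff] at hodd
    exact hodd this
  have hlin : ∀ {v : X}, v * v = 1 → ∃ g : GL (Fin 2) F, autHom L e v = conjAut g := fun hv =>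
    exists_linear L e hchar hc hD hv
  obtain ⟨gt, hgt⟩ := hlin (invol_mul_self h.ord)
  obtain ⟨hmul, u, huL, hu, huA⟩ := exists_mul_mem h L hSD hpair hone (commutator_mem L e hchar hc hgt)
  have hidx := index_le_two h L hmul huL hu huA
  refine ⟨F, i1, i2, hF3, ?_⟩
  rcases (show L.index = 1 ∨ L.index = 2 by
    have : L.index ≠ 0 := Subgroup.index_ne_zero_of_finite
    omega) with h1 | h2
  · exact .inl ⟨(Subgroup.topEquiv.symm.trans (MulEquiv.subgroupCongr (Subgroup.index_eq_one.1 h1).symm)).trans e⟩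
  right
  -- an involution outside `L`
  obtain ⟨v, hvL, hv⟩ : ∃ v, v ∉ L ∧ v * v = 1 := by
    by_contra! hall
    have hHA : ∀ x ∈ H, x ∉ A → x ∈ L := fun x hx hxA => by
      by_contra hxL
      exact hall x hxL (h.sq x hx hxA)
    have hAL : ∀ a ∈ A, a ∈ L := fun a ha => by
      have hua : u * a ∉ A := fun e1 => huA (by simpa using A.mul_mem e1 (A.inv_mem ha))
      simpa using L.mul_mem (L.inv_mem huL) (hHA _ (H.mul_mem hu (h.le ha)) hua)
    have htop : L = ⊤ := eq_top_iff.2 fun k _ => by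
      obtain ⟨l, hl, hlk⟩ := hmul k
      have : l * k ∈ L := by
        by_cases hA : l * k ∈ A
        · exact hAL _ hA
        · exact hHA _ hlk hA
      simpa using L.mul_mem (L.inv_mem hl) this
    rw [htop, Subgroup.index_top] at h2
    omega
  obtain ⟨gv, hgv⟩ := hlin hv
  let ψ : Matrix.ProjGenLinGroup (Fin 2) F →* MulAut (Matrix.ProjectiveSpecialLinearGroup (Fin 2) F) :=
    QuotientGroup.lift _ conjAut fun g hg => conjAut_eq_one_of_center hg
  have hψmk : ∀ g, ψ (Matrix.ProjGenLinGroup.mk g) = conjAut g := fun g => rfl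
  have hψ : Function.Injective ψ := by
    refine (injective_iff_map_eq_one ψ).2 fun q hq => ?_
    induction q using Matrix.ProjGenLinGroup.induction_on with
    | mk g =>
      rw [hψmk] at hq
      obtain ⟨c, hc'⟩ := exists_scalar_of_conjAut_eq_one (le_refl 2) hq
      rw [hc', Matrix.ProjGenLinGroup.mk_scalar]
  have hrange : ∀ x : X, ∃ q, ψ q = autHom L e x := by
    have hL' : ∀ l : L, ∃ g : GL (Fin 2) F, autHom L e (l : X) = conjAut g := by
      intro l
      obtain ⟨s, hs⟩ := QuotientGroup.mk_surjective (e l)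
      exact ⟨Matrix.SpecialLinearGroup.toGL s, by rw [conjAut_toGL, hs, autHom_of_mem]⟩
    intro x
    by_cases hxL : x ∈ L
    · obtain ⟨g, hg⟩ := hL' ⟨x, hxL⟩
      exact ⟨Matrix.ProjGenLinGroup.mk g, (hψmk g).trans hg.symm⟩
    · have hvx := (Subgroup.mul_mem_iff_of_index_two h2).2 (iff_of_false hxL hvL)
      obtain ⟨g, hg⟩ := hL' ⟨x * v, hvx⟩
      refine ⟨Matrix.ProjGenLinGroup.mk (g * gv), ?_⟩
      rw [hψmk, map_mul, ← hg, ← hgv, ← map_mul, mul_assoc, hv, mul_one]
  let η : X →* ψ.range := (autHom L e).codRestrict ψ.range fun x => hrange x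
  have hηinj : Function.Injective η := fun a b hab =>
    autHom_injective L e hc (congrArg Subtype.val hab)
  have hcard : Nat.card X = Nat.card (Matrix.ProjGenLinGroup (Fin 2) F) := by
    have h1 := L.card_mul_index
    have h3 := Linear.two_mul_card_PSL_two_of_odd (F := F) hodd
    rw [h2, Nat.card_congr e.toEquiv, mul_comm, h3] at h1
    rw [Linear.card_PGL_eq_card_SL, Linear.card_SL_two, ← h1]
  haveI : Finite (Matrix.ProjGenLinGroup (Fin 2) F) := Finite.of_surjective _ Matrix.ProjGenLinGroup.mk_surjective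
  have hbij : Function.Bijective η := (Nat.bijective_iff_injective_and_card η).2
    ⟨hηinj, hcard.trans (Nat.card_congr (MonoidHom.ofInjective hψ).toEquiv)⟩
  exact ⟨(MulEquiv.ofBijective η hbij).trans (MonoidHom.ofInjective hψ).symm⟩

end Cfsg.Agent.Lib.GenDihedral3322
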